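import Mathlib
import Cfsg.Prelude.Def_Transfer
import Cfsg.Agent.Lib.PGroup.Basic
import Cfsg.Agent.Lib.Solvable.BurnsideBasis
import Cfsg.Agent.Lib.Solvable.UniqueSubgroup
import Cfsg.Agent.Lib.Solvable.CoprimeAction
import Cfsg.Agent.Lib.OddLocal.ScnThree.Main

/-!
`2`-groups without a noncyclic abelian subgroup of order eight, acted on by a group of odd order.
-/

set_option autoImplicit false

namespace CfsgLib.PGroup.MinimalEight

open Subgroup
open scoped commutatorElement

variable {G : Type*} [Group G] [Finite G]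

/-- `Y` contains a noncyclic abelian subgroup of order eight. -/
def Eight (Y : Subgroup G) : Prop :=
  ∃ A : Subgroup G, A ≤ Y ∧ IsMulCommutative ↥A ∧ ¬ IsCyclic ↥A ∧ Nat.card ↥A = 8

theorem Eight.mono {Y Y' : Subgroup G} (h : Eight Y) (hle : Y ≤ Y') : Eight Y' :=
  h.imp fun _ hA => ⟨hA.1.trans hle, hA.2⟩

theorem eight_map {T : Type*} [Group T] [Finite T] (f : T →* G) (hf : Function.Injective f)
    {Y : Subgroup T} (h : Eight Y) : Eight (Y.map f) := by
  obtain ⟨A, hA, hc, hn, h8⟩ := h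
  have e : A ≃* A.map f := Subgroup.equivMapOfInjective A f hf
  refine ⟨A.map f, map_mono hA, ⟨⟨fun u v => ?_⟩⟩, fun hcyc => hn ?_,
    by rw [card_map_of_injective hf, h8]⟩
  · obtain ⟨u, rfl⟩ := e.surjective u
    obtain ⟨v, rfl⟩ := e.surjective v
    rw [← map_mul, ← map_mul, hc.is_comm.comm]
  · exact e.isCyclic.2 hcyc

theorem eight_of_pair {Y V : Subgroup G} (hVY : V ≤ Y) (hV : Nat.card V = 4)
    (hVc : ∀ u ∈ V, ∀ v ∈ V, u * v = v * u) {c : G} (hc : c ∈ Y) (hcV : c ∉ V)
    (hc2 : c * c ∈ V) (hc4 : c * c * (c * c) = 1) (hcomm : ∀ v ∈ V, c * v = v * c)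
    (hV4 : ∀ v ∈ V, v * v * (v * v) = 1) : Eight Y := by
  let A : Subgroup G :=
    { carrier := {u | u ∈ V ∨ c * u ∈ V}
      one_mem' := Or.inl (one_mem V)
      mul_mem' := by
        rintro u w (hu | hu) (hw | hw)
        · exact Or.inl (mul_mem hu hw)
        · exact Or.inr (by rw [← mul_assoc, hcomm u hu, mul_assoc]; exact mul_mem hu hw)
        · exact Or.inr (by rw [← mul_assoc]; exact mul_mem hu hw)
        · have e1 : c⁻¹ * (c * u) = (c * u) * c⁻¹ :=
            (Commute.inv_left (hcomm _ hu : Commute c (c * u))).eq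
          refine Or.inl ?_
          have := mul_mem (inv_mem hc2) (mul_mem hu hw)
          rwa [show (c * c)⁻¹ * (c * u * (c * w)) = c⁻¹ * (c⁻¹ * (c * u)) * (c * w) by group,
            e1, show c⁻¹ * (c * u * c⁻¹) * (c * w) = u * w by group] at this
      inv_mem' := by
        rintro u (hu | hu)
        · exact Or.inl (inv_mem hu)
        · have e1 : c * (c * u)⁻¹ = (c * u)⁻¹ * c := hcomm _ (inv_mem hu)
          refine Or.inr ?_
          have := mul_mem hc2 (inv_mem hu)
          rwa [mul_assoc, e1, show c * ((c * u)⁻¹ * c) = c * u⁻¹ by group] at this }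
  have hVA : V ≤ A := fun u hu => Or.inl hu
  have hmemA : ∀ u, u ∈ A ↔ u ∈ V ∨ c * u ∈ V := fun u => Iff.rfl
  have hcA : c ∈ A := Or.inr hc2
  have hAY : A ≤ Y := by
    rintro u (hu | hu)
    · exact hVY hu
    · have := mul_mem (inv_mem hc) (hVY hu)
      rwa [inv_mul_cancel_left] at this
  have hi : (V.subgroupOf A).index = 2 := by
    rw [Subgroup.index_eq_two_iff]
    refine ⟨⟨c, hcA⟩, fun ⟨b, hb⟩ => ?_⟩
    simp only [mem_subgroupOf, MulMemClass.mk_mul_mk]
    by_cases hbV : b ∈ V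
    · refine Or.inr ⟨hbV, fun h => hcV ?_⟩
      have := mul_mem (inv_mem hbV) h
      rwa [inv_mul_cancel_left] at this
    · refine Or.inl ⟨?_, hbV⟩
      have h1 := ((hmemA b).1 hb).resolve_left hbV
      have e2 : c * (c * b) = (c * b) * c := hcomm _ h1
      have e3 : c * b = b * c := mul_left_cancel (e2.trans (mul_assoc c b c))
      rwa [← e3]
  have hA8 : Nat.card A = 8 := by
    have := (V.subgroupOf A).card_mul_index
    rw [hi, Nat.card_congr (Subgroup.subgroupOfEquivOfLe hVA).toEquiv, hV] at this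
    exact this.symm
  have hcenV : ∀ u ∈ A, ∀ v ∈ V, u * v = v * u := by
    intro u hu v hv
    rcases (hmemA u).1 hu with h | h
    · exact hVc u h v hv
    · calc u * v = c⁻¹ * ((c * u) * v) := by group
        _ = c⁻¹ * (v * (c * u)) := by rw [hVc _ h v hv]
        _ = (c⁻¹ * v) * (c * u) := by group
        _ = (v * c⁻¹) * (c * u) := by
          rw [(Commute.inv_left (hcomm v hv : Commute c v)).eq]
        _ = v * u := by group
  have hcen : ∀ u ∈ A, c * u = u * c := by
    intro u hu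
    rcases (hmemA u).1 hu with h | h
    · exact hcomm u h
    · have e2 : c * (c * u) = (c * u) * c := hcomm _ h
      exact mul_left_cancel (e2.trans (mul_assoc c u c))
  have hab : ∀ u ∈ A, ∀ v ∈ A, u * v = v * u := by
    intro u hu v hv
    rcases (hmemA v).1 hv with h | h
    · exact hcenV u hu v h
    · calc u * v = u * (c⁻¹ * (c * v)) := by group
        _ = (u * c⁻¹) * (c * v) := by group
        _ = (c⁻¹ * u) * (c * v) := by
          rw [(Commute.inv_left (hcen u hu : Commute c u)).eq]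
        _ = c⁻¹ * (u * (c * v)) := by group
        _ = c⁻¹ * ((c * v) * u) := by rw [hcenV u hu _ h]
        _ = v * u := by group
  refine ⟨A, hAY, ⟨⟨fun u v => Subtype.ext (hab u u.2 v v.2)⟩⟩, fun hcyc => ?_, hA8⟩
  obtain ⟨⟨g, hgA⟩, hg⟩ := hcyc.exists_generator
  have hgo : orderOf (⟨g, hgA⟩ : A) = 8 := by rw [orderOf_eq_card_of_forall_mem_zpowers hg, hA8]
  have hg4 : g ^ 4 = 1 := by
    rcases (hmemA g).1 hgA with h | h
    · rw [show g ^ 4 = g * g * (g * g) by simp [pow_succ, mul_assoc], hV4 g h]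
    · have hcomm' : Commute c⁻¹ (c * g) := Commute.inv_left (hcomm _ h)
      have hc4' : c ^ 4 = 1 := by rw [show c ^ 4 = c * c * (c * c) by simp [pow_succ, mul_assoc], hc4]
      have hw4 : (c * g) ^ 4 = 1 := by
        rw [show (c * g) ^ 4 = c * g * (c * g) * (c * g * (c * g)) by simp [pow_succ, mul_assoc],
          hV4 _ h]
      rw [show g = c⁻¹ * (c * g) by group, hcomm'.mul_pow, inv_pow, hc4', hw4, inv_one, one_mul]
  have := orderOf_dvd_of_pow_eq_one
    (show (⟨g, hgA⟩ : A) ^ 4 = 1 from Subtype.ext (by simpa using hg4))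
  rw [hgo] at this
  norm_num at this

/-- Conjugations by elements not fixing a subgroup of order four with a fixed point compose
trivially. -/
theorem transv {E : Subgroup G} (hE : Nat.card E = 4) {z : G} (hz : z ∈ E) (hz1 : z ≠ 1)
    {x : G} (hx : ∀ e ∈ E, x * e * x⁻¹ ∈ E) (hxz : x * z * x⁻¹ = z)
    {e : G} (he : e ∈ E) (hez : e ∉ zpowers z) :
    x * e * x⁻¹ = e ∨ x * e * x⁻¹ = e * z := by
  classical
  by_contra hh
  push Not at hh
  obtain ⟨h1, h2⟩ := hh
  set f := x * e * x⁻¹ with hf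
  have he1 : e ≠ 1 := fun h => hez (h ▸ one_mem _)
  have hf1 : f ≠ 1 := fun h => he1 (conj_eq_one_iff.1 h)
  have hfz : f ≠ z := fun h => hez (by
    have : e = z := by
      have h' : x * e * x⁻¹ = x * z * x⁻¹ := by rw [hxz, ← hf, h]
      exact mul_left_cancel (mul_right_cancel h')
    rw [this]; exact mem_zpowers z)
  have hez' : e ≠ z := fun h => hez (h ▸ mem_zpowers z)
  have he1z : e * z ≠ 1 := fun h => hez (by
    rw [eq_inv_of_mul_eq_one_left h]; exact inv_mem (mem_zpowers z))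
  have hezz : e * z ≠ z := fun h => he1 (by simpa using h)
  have heze : e * z ≠ e := fun h => hz1 (by simpa using h)
  have hsub : ({1, z, e, e * z, f} : Finset G) ⊆ (Set.toFinite (E : Set G)).toFinset := by
    intro u hu
    simp only [Finset.mem_insert, Finset.mem_singleton] at hu
    rw [Set.Finite.mem_toFinset]
    rcases hu with rfl | rfl | rfl | rfl | rfl
    · exact one_mem E
    · exact hz
    · exact he
    · exact mul_mem he hz
    · exact hx e he
  have hcard := Finset.card_le_card hsub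
  rw [← Set.ncard_eq_toFinset_card] at hcard
  have : (E : Set G).ncard = 4 := hE
  rw [this] at hcard
  have h5 : ({1, z, e, e * z, f} : Finset G).card = 5 := by
    rw [Finset.card_insert_of_notMem (by simp [Ne.symm hz1, Ne.symm he1, Ne.symm he1z, Ne.symm hf1]),
      Finset.card_insert_of_notMem (by simp [Ne.symm hez', Ne.symm hezz, Ne.symm hfz]),
      Finset.card_insert_of_notMem (by simp [Ne.symm heze, Ne.symm h1]),
      Finset.card_pair (Ne.symm h2)]
  omega

/-- If `x` and `y` both move a four-element subgroup fixing `z`, then `x * y` centralizes it. -/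
theorem transv_mul {E : Subgroup G} (hE : Nat.card E = 4) {z : G} (hz : z ∈ E) (hz1 : z ≠ 1)
    (hz2 : z * z = 1) {x y : G} (hx : ∀ e ∈ E, x * e * x⁻¹ ∈ E) (hxz : x * z * x⁻¹ = z)
    (hy : ∀ e ∈ E, y * e * y⁻¹ ∈ E) (hyz : y * z * y⁻¹ = z)
    (hxE : ¬ ∀ e ∈ E, x * e * x⁻¹ = e) (hyE : ¬ ∀ e ∈ E, y * e * y⁻¹ = e) :
    ∀ e ∈ E, x * y * e * (x * y)⁻¹ = e := by
  have hfix : ∀ u, u * z * u⁻¹ = z → ∀ e ∈ zpowers z, u * e * u⁻¹ = e := by
    intro u hu e he
    obtain ⟨i, rfl⟩ := mem_zpowers_iff.1 he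
    rw [← conj_zpow, hu]
  have hz2' : ∀ e ∈ zpowers z, e = 1 ∨ e = z := by
    intro e he
    obtain ⟨i, rfl⟩ := mem_zpowers_iff.1 he
    rcases Int.even_or_odd i with ⟨j, rfl⟩ | ⟨j, rfl⟩
    · exact Or.inl (by rw [← two_mul, zpow_mul, zpow_two, hz2, one_zpow])
    · exact Or.inr (by rw [zpow_add, zpow_mul, zpow_two, hz2, one_zpow, one_mul, zpow_one])
  have hmove : ∀ u, (∀ e ∈ E, u * e * u⁻¹ ∈ E) → u * z * u⁻¹ = z →
      (¬ ∀ e ∈ E, u * e * u⁻¹ = e) → ∀ e ∈ E, e ∉ zpowers z → u * e * u⁻¹ = e * z := by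
    intro u hu huz hne e he hez
    refine (transv hE hz hz1 hu huz he hez).resolve_left fun hfe => hne fun f hf => ?_
    by_cases hfz : f ∈ zpowers z
    · exact hfix u huz f hfz
    rcases transv hE hz hz1 hu huz hf hfz with h | h
    · exact h
    exfalso
    have h1 : e⁻¹ * f ∈ E := mul_mem (inv_mem he) hf
    have h2 : u * (e⁻¹ * f) * u⁻¹ = e⁻¹ * f * z := by
      rw [show u * (e⁻¹ * f) * u⁻¹ = (u * e * u⁻¹)⁻¹ * (u * f * u⁻¹) by group, hfe, h]; group
    by_cases hef : e⁻¹ * f ∈ zpowers z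
    · rw [hfix u huz _ hef] at h2
      exact hz1 (by simpa using h2.symm)
    · -- three distinct cosets of `z` in a group of order four
      classical
      have hsub : ({1, z, e, e * z, f} : Finset G) ⊆ (Set.toFinite (E : Set G)).toFinset := by
        intro w hw
        simp only [Finset.mem_insert, Finset.mem_singleton] at hw
        rw [Set.Finite.mem_toFinset]
        rcases hw with rfl | rfl | rfl | rfl | rfl
        · exact one_mem E
        · exact hz
        · exact he
        · exact mul_mem he hz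
        · exact hf
      have hcard := Finset.card_le_card hsub
      rw [← Set.ncard_eq_toFinset_card] at hcard
      have : (E : Set G).ncard = 4 := hE
      rw [this] at hcard
      have he1 : e ≠ 1 := fun h => hez (h ▸ one_mem _)
      have hf1 : f ≠ 1 := fun h => hfz (h ▸ one_mem _)
      have hfz' : f ≠ z := fun h => hfz (h ▸ mem_zpowers z)
      have hez' : e ≠ z := fun h => hez (h ▸ mem_zpowers z)
      have he1z : e * z ≠ 1 := fun h => hez (by
        rw [eq_inv_of_mul_eq_one_left h]; exact inv_mem (mem_zpowers z))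
      have hezz : e * z ≠ z := fun h => he1 (by simpa using h)
      have heze : e * z ≠ e := fun h => hz1 (by simpa using h)
      have hfe' : f ≠ e := fun h => hef (by rw [h, inv_mul_cancel]; exact one_mem _)
      have hfez : f ≠ e * z := fun h => hef (by rw [h, inv_mul_cancel_left]; exact mem_zpowers z)
      have h5 : ({1, z, e, e * z, f} : Finset G).card = 5 := by
        rw [Finset.card_insert_of_notMem (by simp [Ne.symm hz1, Ne.symm he1, Ne.symm he1z, Ne.symm hf1]),
          Finset.card_insert_of_notMem (by simp [Ne.symm hez', Ne.symm hezz, Ne.symm hfz']),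
          Finset.card_insert_of_notMem (by simp [Ne.symm heze, Ne.symm hfe']),
          Finset.card_pair (Ne.symm hfez)]
      omega
  intro e he
  by_cases hez : e ∈ zpowers z
  · exact hfix _ (by
      calc x * y * z * (x * y)⁻¹ = x * (y * z * y⁻¹) * x⁻¹ := by group
        _ = z := by rw [hyz, hxz]) e hez
  · calc x * y * e * (x * y)⁻¹ = x * (y * e * y⁻¹) * x⁻¹ := by group
      _ = (x * e * x⁻¹) * (x * z * x⁻¹) := by rw [hmove y hy hyz hyE e he hez]; group
      _ = e * z * z := by rw [hmove x hx hxz hxE e he hez, hxz]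
      _ = e := by rw [mul_assoc, hz2, mul_one]

/-- A normal subgroup inside the Frattini subgroup without an abelian noncyclic subgroup of order
eight is cyclic or has order at most four. -/
theorem cyclic_of_le_frattini {T : Type*} [Group T] [Finite T] (hT : IsPGroup 2 T) (N : Subgroup T)
    [N.Normal] (hN : N ≤ frattini T) (h8 : ¬ Eight N) : IsCyclic N ∨ Nat.card N ≤ 4 := by
  haveI : Fact (Nat.Prime 2) := ⟨Nat.prime_two⟩
  by_contra hcon
  push Not at hcon
  obtain ⟨hnc, hN4⟩ := hcon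
  obtain ⟨E, hEN, hEn, hE⟩ := CfsgLib.OddLocal.ScnThree.exists_normal_le_card hT (N := N) 2 (by omega)
  norm_num at hE
  haveI := hEn
  have hEne : E ≠ ⊥ := fun h => by rw [h, card_bot] at hE; omega
  obtain ⟨Z, hZE, hZc, -, hZ⟩ := CfsgLib.PGroup.exists_card_eq_le_center hT E hEne
  obtain ⟨z, hz, hz1⟩ := Z.bot_or_exists_ne_one.resolve_left
    (fun h => by rw [h, card_bot] at hZ; omega)
  have hz2 : z * z = 1 := by
    have := orderOf_dvd_natCard (⟨z, hz⟩ : Z)
    rw [hZ, orderOf_dvd_iff_pow_eq_one, pow_two] at this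
    exact congrArg Subtype.val this
  have hzc : ∀ x, x * z * x⁻¹ = z := fun x => by
    rw [mem_center_iff.1 (hZc hz) x, mul_inv_cancel_right]
  -- the centralizer of `E` contains the Frattini subgroup
  have hEcN : ∀ x, ∀ e ∈ E, x * e * x⁻¹ ∈ E := fun x e he => hEn.conj_mem e he x
  have hfE : frattini T ≤ centralizer (E : Set T) := by
    have hprod : ∀ x y, x ∉ centralizer (E : Set T) → y ∉ centralizer (E : Set T) →
        x * y ∈ centralizer (E : Set T) := by
      intro x y hx hy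
      have hmove : ∀ u, u ∉ centralizer (E : Set T) → ¬ ∀ e ∈ E, u * e * u⁻¹ = e := fun u hu h =>
        hu (mem_centralizer_iff.2 fun e he => (mul_inv_eq_iff_eq_mul.1 (h e he)).symm)
      refine mem_centralizer_iff.2 fun e he => ?_
      exact (mul_inv_eq_iff_eq_mul.1 (transv_mul hE (hZE hz) hz1 hz2 (hEcN x) (hzc x) (hEcN y)
        (hzc y) (hmove x hx) (hmove y hy) e he)).symm
    have hcn : (centralizer (E : Set T)).Normal := by
      refine ⟨fun u hu x => mem_centralizer_iff.2 fun e he => ?_⟩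
      have := mem_centralizer_iff.1 hu _ (hEcN x⁻¹ e he)
      calc e * (x * u * x⁻¹) = x * ((x⁻¹ * e * x⁻¹⁻¹) * u) * x⁻¹ := by group
        _ = x * (u * (x⁻¹ * e * x⁻¹⁻¹)) * x⁻¹ := by rw [this]
        _ = x * u * x⁻¹ * e := by group
    refine CfsgLib.Solvable.frattini_le_of_elementary (p := 2) _ ?_ fun x => ?_
    · rw [commutator_def, commutator_le]
      intro x _ y _
      rw [commutatorElement_def]
      by_cases hx : x ∈ centralizer (E : Set T)
      · rw [show x * y * x⁻¹ * y⁻¹ = x * (y * x⁻¹ * y⁻¹) by group]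
        exact mul_mem hx (hcn.conj_mem _ (inv_mem hx) y)
      by_cases hy : y ∈ centralizer (E : Set T)
      · exact mul_mem (hcn.conj_mem _ hy x) (inv_mem hy)
      rw [show x * y * x⁻¹ * y⁻¹ = x * y * (y * x)⁻¹ by group]
      exact mul_mem (hprod x y hx hy) (inv_mem (hprod y x hy hx))
    · rw [pow_two]
      by_cases hx : x ∈ centralizer (E : Set T)
      · exact mul_mem hx hx
      · exact hprod x x hx hx
  have hcen : ∀ n ∈ N, ∀ e ∈ E, n * e = e * n := fun n hn e he =>
    (mem_centralizer_iff.1 (hfE (hN hn)) e he).symm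
  have hEc : ∀ u ∈ E, ∀ v ∈ E, u * v = v * u := fun u hu v hv => hcen u (hEN hu) v hv
  have hE4 : ∀ v ∈ E, v * v * (v * v) = 1 := by
    intro v hv
    have := orderOf_dvd_natCard (⟨v, hv⟩ : E)
    rw [hE, orderOf_dvd_iff_pow_eq_one] at this
    simpa [pow_succ, mul_assoc] using congrArg Subtype.val this
  have hout : ∀ n ∈ N, n ∉ E → n * n ∈ E → n * n * (n * n) ≠ 1 := fun n hn hnE hn2 hn4 =>
    h8 (eight_of_pair hEN hE hEc hn hnE hn2 hn4 (fun v hv => hcen n hn v hv) hE4)
  -- a central element of order four in `N`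
  obtain ⟨e, he, he4⟩ : ∃ e ∈ E, e * e ≠ 1 := by
    by_contra h
    push Not at h
    obtain ⟨n, hn, hnE⟩ := SetLike.exists_of_lt
      (lt_of_le_of_ne hEN fun h' => by rw [← h', hE] at hN4; omega)
    obtain ⟨j, hj1, hj2⟩ := CfsgLib.Solvable.exists_notMem_pow_mem (p := 2) hT (H := E) hnE
    rw [pow_two] at hj2
    exact hout _ (pow_mem hn _) hj1 hj2 (h _ hj2)
  -- a single involution
  refine (CfsgLib.Solvable.isCyclic_or_quaternion (hT.to_subgroup N) fun u v hu hv => ?_).elim
    hnc fun hq8 => ?_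
  · have hinv : ∀ w : N, orderOf w = 2 → (w : T) = e * e := by
      intro w hw
      have hw2 : (w : T) * w = 1 := by
        have := congrArg Subtype.val (hw ▸ pow_orderOf_eq_one w)
        simpa [pow_two] using this
      by_cases hwE : (w : T) ∈ E
      · by_contra hne
        have hw1 : (w : T) ≠ 1 := fun h => by
          rw [show w = 1 from Subtype.ext h, orderOf_one] at hw; omega
        have hwz : (w : T) ∉ zpowers e := by
          intro hm
          obtain ⟨i, hi⟩ := mem_zpowers_iff.1 hm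
          have h4 : e ^ (4 : ℤ) = 1 := by
            rw [show (4 : ℤ) = ((4 : ℕ) : ℤ) by rfl, zpow_natCast,
              show e ^ 4 = e * e * (e * e) by simp [pow_succ, mul_assoc], hE4 e he]
          obtain ⟨q, r, hr, rfl⟩ : ∃ q r : ℤ, (r = 0 ∨ r = 1 ∨ r = 2 ∨ r = 3) ∧ i = 4 * q + r :=
            ⟨i / 4, i % 4, by omega, by omega⟩
          rw [zpow_add, zpow_mul, h4, one_zpow, one_mul] at hi
          rcases hr with rfl | rfl | rfl | rfl
          · exact hw1 (by simpa using hi.symm)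
          · rw [zpow_one] at hi; rw [← hi] at hw2; exact he4 hw2
          · rw [zpow_two] at hi; exact hne hi.symm
          · rw [show (3 : ℤ) = 2 + 1 by rfl, zpow_add, zpow_two, zpow_one] at hi
            rw [← hi, show e * e * e * (e * e * e) = e * e * (e * e) * (e * e) by group,
              hE4 e he, one_mul] at hw2
            exact he4 hw2
        have hle : zpowers e ≤ E := zpowers_le.2 he
        have hoe : orderOf e = 2 ^ (1 + 1) := orderOf_eq_prime_pow
          (by rw [pow_one, pow_two]; exact he4)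
          (by rw [show e ^ 2 ^ (1 + 1) = e * e * (e * e) by simp [pow_succ, mul_assoc], hE4 e he])
        exact hwz ((eq_of_le_of_card_ge hle (by rw [Nat.card_zpowers, hoe, hE]; norm_num)) ▸ hwE)
      · exact absurd (by rw [hw2, one_mul]) (hout w w.2 hwE (by rw [hw2]; exact one_mem E))
    have : u = v := Subtype.ext ((hinv u hu).trans (hinv v hv).symm)
    rw [this]; exact mem_zpowers v
  · -- the centre of a quaternion group has exponent two
    obtain ⟨-, k, ⟨f⟩⟩ := hq8
    set q := f ⟨e, hEN he⟩ with hq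
    have hqc : ∀ w, q * w = w * q := fun w => by
      obtain ⟨n, rfl⟩ := f.surjective w
      rw [hq, ← map_mul, ← map_mul]
      exact congrArg f (Subtype.ext (hcen n n.2 e he).symm)
    have hq2 : q * q ≠ 1 := fun h => he4 (by
      rw [hq, ← map_mul, EmbeddingLike.map_eq_one_iff] at h
      exact congrArg Subtype.val h)
    have hk : 2 ^ k ≠ 0 := by positivity
    haveI : NeZero (2 ^ k) := ⟨hk⟩
    rcases hb : q with b | b
    · have := hqc (.xa 0)
      rw [hb, QuaternionGroup.a_mul_xa, QuaternionGroup.xa_mul_a] at this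
      have h' := QuaternionGroup.xa.inj this
      rw [hb, QuaternionGroup.a_mul_a] at hq2
      refine hq2 ?_
      have : b + b = 0 := by linear_combination (-1 : ℤ) * h'
      rw [this]; rfl
    · have hk1 : k ≠ 0 := by
        rintro rfl
        have hc := Nat.card_congr f.toEquiv
        have h4 : Nat.card (QuaternionGroup (2 ^ 0)) = 4 := by
          rw [Nat.card_eq_fintype_card, QuaternionGroup.card]; norm_num
        omega
      have := hqc (.a 1)
      rw [hb, QuaternionGroup.xa_mul_a, QuaternionGroup.a_mul_xa] at this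
      have h' := QuaternionGroup.xa.inj this
      have h2 : ((2 : ℕ) : ZMod (2 * 2 ^ k)) = 0 := by push_cast; linear_combination h'
      rw [ZMod.natCast_eq_zero_iff] at h2
      have h3 := Nat.le_of_dvd two_pos h2
      have : 2 ≤ 2 ^ k := by
        calc 2 = 2 ^ 1 := rfl
          _ ≤ 2 ^ k := Nat.pow_le_pow_right two_pos (by omega)
      omega

variable {X H : Subgroup G}

theorem fix_of_step (hX : IsPGroup 2 X) (hH : Odd (Nat.card H)) {h x : G} (hh : h ∈ H) (hx : x ∈ X)
    (ht : x⁻¹ * (h * x * h⁻¹) ∈ X) (hc : h * (x⁻¹ * (h * x * h⁻¹)) * h⁻¹ = x⁻¹ * (h * x * h⁻¹)) :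
    h * x * h⁻¹ = x := by
  set t := x⁻¹ * (h * x * h⁻¹) with ht'
  have hiter : ∀ m : ℕ, h ^ m * x * (h ^ m)⁻¹ = x * t ^ m := by
    intro m
    induction m with
    | zero => simp
    | succ m ih =>
      calc h ^ (m + 1) * x * (h ^ (m + 1))⁻¹ = h * (h ^ m * x * (h ^ m)⁻¹) * h⁻¹ := by
            rw [pow_succ']; group
        _ = (h * x * h⁻¹) * (h * t ^ m * h⁻¹) := by rw [ih]; group
        _ = x * t * t ^ m := by rw [← conj_pow, hc, ht']; group
        _ = x * t ^ (m + 1) := by rw [mul_assoc, ← pow_succ']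
  have ho : h ^ Nat.card H = 1 := by
    have := congrArg Subtype.val (pow_card_eq_one' (x := (⟨h, hh⟩ : H)))
    exact this
  have h1 := hiter (Nat.card H)
  rw [ho, one_mul, inv_one, mul_one] at h1
  have htm : t ^ Nat.card H = 1 := mul_left_cancel (h1.symm.trans (mul_one x).symm)
  obtain ⟨k, hk⟩ := hX ⟨t, ht⟩
  have hk' : t ^ 2 ^ k = 1 := congrArg Subtype.val hk
  have hcop : (Nat.card H).Coprime (2 ^ k) := hH.coprime_two_right.pow_right k
  have ht1 : t = 1 := orderOf_eq_one_iff.1 (Nat.dvd_one.1 (hcop.gcd_eq_one ▸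
    Nat.dvd_gcd (orderOf_dvd_of_pow_eq_one htm) (orderOf_dvd_of_pow_eq_one hk')))
  exact (inv_mul_eq_one.1 ht1).symm

theorem fix_of_cyclic (hX : IsPGroup 2 X) (hH : Odd (Nat.card H)) {x : G} (hx : x ∈ X)
    (hn : ∀ h ∈ H, h * x * h⁻¹ ∈ zpowers x) : ∀ h ∈ H, h * x * h⁻¹ = x := by
  obtain ⟨k, hk⟩ := hX ⟨x, hx⟩
  have hk' : x ^ 2 ^ k = 1 := congrArg Subtype.val hk
  clear hk
  induction k generalizing x with
  | zero =>
    intro h _
    rw [pow_zero, pow_one] at hk'
    rw [hk']; group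
  | succ k ih =>
    intro h hh
    have hsq : ∀ g ∈ H, g * (x * x) * g⁻¹ = x * x := by
      refine ih (mul_mem hx hx) (fun g hg => ?_) ?_
      · obtain ⟨i, hi⟩ := mem_zpowers_iff.1 (hn g hg)
        refine mem_zpowers_iff.2 ⟨i, ?_⟩
        rw [show g * (x * x) * g⁻¹ = (g * x * g⁻¹) * (g * x * g⁻¹) by group, ← hi]
        exact (Commute.refl x).mul_zpow i
      · rw [← pow_two, ← pow_mul, ← pow_succ']; exact hk'
    obtain ⟨i, hi⟩ := mem_zpowers_iff.1 (hn h hh)
    rcases Int.even_or_odd i with ⟨j, rfl⟩ | ⟨j, rfl⟩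
    · have h1 : h * (x * x) ^ j * h⁻¹ = (x * x) ^ j := by rw [← conj_zpow, hsq h hh]
      rw [← two_mul, zpow_mul, zpow_two] at hi
      rw [← hi]
      have h2 : h * (h * x * h⁻¹) * h⁻¹ = h * x * h⁻¹ := by rw [← hi]; exact h1
      have h3 : h * x * h⁻¹ = x := mul_left_cancel (mul_right_cancel h2)
      rw [hi]; exact h3
    · have ht : x⁻¹ * (h * x * h⁻¹) = (x * x) ^ j := by
        rw [← hi, zpow_add, zpow_mul, zpow_two, zpow_one,
          ((Commute.refl x).mul_left (Commute.refl x)).zpow_left j |>.eq, inv_mul_cancel_left]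
      refine fix_of_step hX hH hh hx (by rw [ht]; exact zpow_mem (mul_mem hx hx) j) ?_
      rw [ht, ← conj_zpow, hsq h hh]

theorem fix_of_four (hX : IsPGroup 2 X) (hH : Odd (Nat.card H)) {E : Subgroup G} (hEX : E ≤ X)
    (hE : Nat.card E = 4) (hn : ∀ h ∈ H, ∀ e ∈ E, h * e * h⁻¹ ∈ E) {z : G} (hz : z ∈ E) (hz1 : z ≠ 1)
    (hzc : ∀ h ∈ H, h * z * h⁻¹ = z) : ∀ h ∈ H, ∀ e ∈ E, h * e * h⁻¹ = e := by
  intro h hh e he
  by_cases hez : e ∈ zpowers z
  · obtain ⟨i, rfl⟩ := mem_zpowers_iff.1 hez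
    rw [← conj_zpow, hzc h hh]
  rcases transv hE hz hz1 (hn h hh) (hzc h hh) he hez with h1 | h1
  · exact h1
  refine fix_of_step hX hH hh (hEX he) ?_ ?_
  · rw [h1, inv_mul_cancel_left]; exact hEX hz
  · rw [h1, inv_mul_cancel_left, hzc h hh]

/-- A subgroup of `X` centralized by `H` and normal in `X = [X, H]` is central. -/
theorem central_of_fixed (hgen : X ≤ ⁅X, H⁆) {F : Subgroup G}
    (hF : ∀ x ∈ X, ∀ f ∈ F, x * f * x⁻¹ ∈ F) (hfix : ∀ h ∈ H, ∀ f ∈ F, h * f * h⁻¹ = f) :
    ∀ x ∈ X, ∀ f ∈ F, x * f = f * x := by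
  have hle : ⁅X, H⁆ ≤ centralizer (F : Set G) := by
    rw [commutator_le]
    intro x hx h hh
    refine mem_centralizer_iff.2 fun f hf => ?_
    have hx' : x⁻¹ * f * x ∈ F := by simpa using hF x⁻¹ (inv_mem hx) f hf
    have e1 : h⁻¹ * f * h = f := by
      conv_lhs => rw [← hfix h hh f hf]
      group
    have e2 : h * (x⁻¹ * f * x) * h⁻¹ = x⁻¹ * f * x := hfix h hh _ hx'
    rw [commutatorElement_def]
    calc f * (x * h * x⁻¹ * h⁻¹) = x * ((x⁻¹ * f * x) * h) * x⁻¹ * h⁻¹ := by group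
      _ = x * (h * (x⁻¹ * f * x)) * x⁻¹ * h⁻¹ := by
        rw [mul_inv_eq_iff_eq_mul.1 e2]
      _ = x * h * x⁻¹ * h⁻¹ * (h * f * h⁻¹) := by group
      _ = _ := by rw [hfix h hh f hf]
  exact fun x hx f hf => (mem_centralizer_iff.1 (hle (hgen hx)) f hf).symm

/-- A homomorphism to a group of order two kills the fixed points of `H` on `X = [X, H]`. -/
theorem hom_fixed_eq_one (hH : Odd (Nat.card H)) (hgen : X ≤ ⁅X, H⁆)
    (hn : ∀ h ∈ H, ∀ x ∈ X, h * x * h⁻¹ ∈ X) (ψ : X →* Multiplicative (ZMod 2)) {u : G}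
    (hu : u ∈ X) (hfix : ∀ h ∈ H, h * u * h⁻¹ = u) : ψ ⟨u, hu⟩ = 1 := by
  classical
  haveI : Fintype H := Fintype.ofFinite H
  let χ : X →* Multiplicative (ZMod 2) :=
    { toFun := fun x => ∏ h : H, ψ ⟨h * x * (h : G)⁻¹, hn h h.2 x x.2⟩
      map_one' := Finset.prod_eq_one fun h _ => by
        rw [show (⟨(h : G) * ((1 : X) : G) * (h : G)⁻¹, hn h h.2 _ (one_mem X)⟩ : X) = 1 from
          Subtype.ext (by simp), map_one]
      map_mul' := fun x y => by
        rw [← Finset.prod_mul_distrib]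
        refine Finset.prod_congr rfl fun h _ => ?_
        rw [← map_mul]
        exact congrArg ψ (Subtype.ext (by simp [mul_assoc])) }
  have hinv : ∀ g : H, ∀ x : X, χ ⟨g * x * (g : G)⁻¹, hn g g.2 x x.2⟩ = χ x := by
    intro g x
    refine Fintype.prod_equiv (Equiv.mulRight g) _ _ fun h => ?_
    exact congrArg ψ (Subtype.ext (by simp [mul_assoc]))
  have hker : ⁅X, H⁆ ≤ χ.ker.map X.subtype := by
    rw [commutator_le]
    intro x hx h hh
    have hm : ⁅x, h⁆ ∈ X := by
      rw [commutatorElement_def, show x * h * x⁻¹ * h⁻¹ = x * (h * x⁻¹ * h⁻¹) by group]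
      exact mul_mem hx (hn h hh _ (inv_mem hx))
    refine ⟨⟨_, hm⟩, ?_, rfl⟩
    rw [SetLike.mem_coe, MonoidHom.mem_ker,
      show (⟨⁅x, h⁆, hm⟩ : X) = ⟨x, hx⟩ * ⟨h * x⁻¹ * h⁻¹, hn h hh _ (inv_mem hx)⟩ from
        Subtype.ext (by simp [commutatorElement_def, mul_assoc]), map_mul]
    rw [show (χ ⟨h * x⁻¹ * h⁻¹, hn h hh _ (inv_mem hx)⟩) = χ ⟨x, hx⟩⁻¹ from hinv ⟨h, hh⟩ (⟨x, hx⟩⁻¹),
      map_inv, mul_inv_cancel]
  obtain ⟨v, hv, hvu⟩ := hker (hgen hu)
  have hv' : v = ⟨u, hu⟩ := Subtype.ext hvu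
  rw [SetLike.mem_coe, MonoidHom.mem_ker, hv'] at hv
  have hprod : χ ⟨u, hu⟩ = ψ ⟨u, hu⟩ ^ Nat.card H := by
    show ∏ h : H, ψ ⟨h * u * (h : G)⁻¹, _⟩ = _
    rw [Finset.prod_eq_pow_card (b := ψ ⟨u, hu⟩) (fun (h : H) _ => congrArg ψ (Subtype.ext (hfix (h : G) h.2))),
      Finset.card_univ, Nat.card_eq_fintype_card]
  rw [hprod] at hv
  obtain ⟨m, hm⟩ := hH
  have h2 : ψ ⟨u, hu⟩ ^ 2 = 1 := by
    generalize ψ ⟨u, hu⟩ = b
    revert b
    decide
  rwa [hm, pow_succ, pow_mul, h2, one_pow, one_mul] at hv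

end CfsgLib.PGroup.MinimalEight
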