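import Cfsg.Agent.Lib.PGroup.MinimalEight.Basic
import Cfsg.Agent.S4189

/-!
`2`-groups `X = [X, H]` all of whose proper `H`-invariant subgroups have no noncyclic abelian
subgroup of order eight.
-/

set_option autoImplicit false

namespace CfsgLib.PGroup.MinimalEight

open Subgroup
open scoped commutatorElement

variable {G : Type*} [Group G] [Finite G]

theorem abelian_cyclic_or_le_four {T : Type*} [Group T] [Finite T] (hT : IsPGroup 2 T)
    (N : Subgroup T) (hc : ∀ u ∈ N, ∀ v ∈ N, u * v = v * u) (h8 : ¬ Eight N) :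
    IsCyclic N ∨ Nat.card N ≤ 4 := by
  haveI : Fact (Nat.Prime 2) := ⟨Nat.prime_two⟩
  by_contra hcon
  push Not at hcon
  obtain ⟨hnc, h4⟩ := hcon
  obtain ⟨u, v, hu, hv, huv⟩ : ∃ u v : N, orderOf u = 2 ∧ orderOf v = 2 ∧ u ∉ zpowers v := by
    by_contra h
    push Not at h
    exact hnc (CfsgLib.Solvable.isCyclic_of_unique_of_comm (hT.to_subgroup N)
      (fun a b => Subtype.ext (hc a a.2 b b.2)) fun a b ha hb => h a b ha hb)
  have hu2 : (u : T) * u = 1 := by
    have := congrArg Subtype.val (hu ▸ pow_orderOf_eq_one u)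
    rw [pow_two] at this; exact this
  have hv2 : (v : T) * v = 1 := by
    have := congrArg Subtype.val (hv ▸ pow_orderOf_eq_one v)
    rw [pow_two] at this; exact this
  let V : Subgroup T := zpowers (u : T) ⊔ zpowers (v : T)
  have hVN : V ≤ N := sup_le (zpowers_le.2 u.2) (zpowers_le.2 v.2)
  let V' : Subgroup T :=
    { carrier := {1, (u : T), (v : T), (u : T) * v}
      one_mem' := by simp
      mul_mem' := by
        rintro a b (rfl | rfl | rfl | rfl) (rfl | rfl | rfl | rfl) <;>
          simp only [Set.mem_insert_iff, Set.mem_singleton_iff, one_mul, mul_one, hu2, hv2,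
            eq_self_iff_true, true_or, or_true]
        · right; right; left; rw [← mul_assoc, hu2, one_mul]
        · right; right; right; rw [hc _ v.2 _ u.2]
        · right; left; rw [hc _ u.2 _ v.2, ← mul_assoc, hv2, one_mul]
        · right; right; left
          rw [hc _ u.2 _ v.2, mul_assoc, hu2, mul_one]
        · right; left; rw [mul_assoc, hv2, mul_one]
        · left; rw [mul_assoc, ← mul_assoc (v : T), hc _ v.2 _ u.2, mul_assoc (u : T), hv2, mul_one, hu2]
      inv_mem' := by
        rintro a (rfl | rfl | rfl | rfl) <;>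
          simp [inv_eq_of_mul_eq_one_right hu2, inv_eq_of_mul_eq_one_right hv2, hc _ v.2 _ u.2] }
  have hVle : V' ≤ N := by
    rintro a (rfl | rfl | rfl | rfl)
    exacts [one_mem N, u.2, v.2, mul_mem u.2 v.2]
  have hu1 : (u : T) ≠ 1 := fun h => by rw [show u = 1 from Subtype.ext h, orderOf_one] at hu; omega
  have hv1 : (v : T) ≠ 1 := fun h => by rw [show v = 1 from Subtype.ext h, orderOf_one] at hv; omega
  have huv1 : (u : T) ≠ v := fun h => huv (by rw [show u = v from Subtype.ext h]; exact mem_zpowers v)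
  have hprod1 : (u : T) * v ≠ 1 := fun h => huv1 (by
    rw [eq_inv_of_mul_eq_one_left h, inv_eq_of_mul_eq_one_right hv2])
  have hV4 : Nat.card V' = 4 := by
    show ({1, (u : T), (v : T), (u : T) * v} : Set T).ncard = 4
    rw [Set.ncard_insert_of_notMem (by simp [Ne.symm hu1, Ne.symm hv1, Ne.symm hprod1]),
      Set.ncard_insert_of_notMem (by simp [huv1, hv1]),
      Set.ncard_pair (by simp [hu1])]
  obtain ⟨w, hw, hwV⟩ := SetLike.exists_of_lt
    (lt_of_le_of_ne hVle fun h' => by rw [← h', hV4] at h4; omega)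
  obtain ⟨j, hj1, hj2⟩ := CfsgLib.Solvable.exists_notMem_pow_mem (p := 2) hT (H := V') hwV
  rw [pow_two] at hj2
  have hsq : ∀ a ∈ V', a * a = 1 := by
    rintro a (rfl | rfl | rfl | rfl)
    · simp
    · exact hu2
    · exact hv2
    · rw [mul_assoc, ← mul_assoc (v : T), hc _ v.2 _ u.2, mul_assoc (u : T), hv2, mul_one, hu2]
  refine h8 (eight_of_pair hVle hV4 (fun a ha b hb => hc a (hVle ha) b (hVle hb)) (pow_mem hw _)
    hj1 hj2 (hsq _ hj2) (fun a ha => hc _ (pow_mem hw _) a (hVle ha))
    fun a ha => by rw [hsq a ha, one_mul])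

/-- Conjugation by an element normalising `X`, as an automorphism of `X`. -/
def conjAut (X : Subgroup G) (h : G) (hn : ∀ x ∈ X, h * x * h⁻¹ ∈ X) (hn' : ∀ x ∈ X, h⁻¹ * x * h ∈ X) :
    X ≃* X where
  toFun x := ⟨h * x * h⁻¹, hn x x.2⟩
  invFun x := ⟨h⁻¹ * x * h, hn' x x.2⟩
  left_inv x := Subtype.ext (by simp [mul_assoc])
  right_inv x := Subtype.ext (by simp [mul_assoc])
  map_mul' x y := Subtype.ext (by simp [mul_assoc])

theorem char_invariant {X H : Subgroup G} (hn : ∀ h ∈ H, ∀ x ∈ X, h * x * h⁻¹ ∈ X)
    (K : Subgroup X) [K.Characteristic] :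
    ∀ h ∈ H, ∀ k ∈ K.map X.subtype, h * k * h⁻¹ ∈ K.map X.subtype := by
  rintro h hh _ ⟨k, hk, rfl⟩
  refine ⟨conjAut X h (hn h hh) (fun x hx => by simpa using hn h⁻¹ (inv_mem hh) x hx) k, ?_, rfl⟩
  exact (Subgroup.characteristic_iff_map_eq.1 inferInstance _).le ⟨k, hk, rfl⟩

structure Hyp (X H : Subgroup G) : Prop where
  two : IsPGroup 2 X
  odd : Odd (Nat.card H)
  norm : ∀ h ∈ H, ∀ x ∈ X, h * x * h⁻¹ ∈ X
  gen : X ≤ ⁅X, H⁆
  small : ∀ Y ≤ X, Y ≠ X → (∀ h ∈ H, ∀ u ∈ Y, h * u * h⁻¹ ∈ Y) → ¬ Eight Y

variable {X H : Subgroup G}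

theorem map_subtype_ne {K : Subgroup X} (hK : K ≠ ⊤) : K.map X.subtype ≠ X := fun h => hK (by
  rw [← comap_map_eq_self_of_injective X.subtype_injective K, h]
  exact subgroupOf_self X)

theorem isCyclic_of_card_lt {T : Type*} [Group T] [Finite T] (hT : IsPGroup 2 T) (K : Subgroup T)
    (h : Nat.card K < 4) : IsCyclic K := by
  haveI : Fact (Nat.Prime 2) := ⟨Nat.prime_two⟩
  obtain ⟨n, hn⟩ := IsPGroup.iff_card.1 (hT.to_subgroup K)
  have : n < 2 := by
    by_contra hh
    have := Nat.pow_le_pow_right two_pos (show 2 ≤ n by omega)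
    rw [← hn] at this
    omega
  interval_cases n
  · haveI : Subsingleton K := (Nat.card_eq_one_iff_unique.1 (by simpa using hn)).1
    infer_instance
  · exact isCyclic_of_prime_card (p := 2) (by simpa using hn)

theorem Hyp.fixed_of_cyclic (hy : Hyp X H) (K : Subgroup X) [K.Characteristic] (hK : IsCyclic K) :
    ∀ h ∈ H, ∀ k ∈ K.map X.subtype, h * k * h⁻¹ = k := by
  obtain ⟨⟨g, hgK⟩, hg⟩ := hK.exists_generator
  have hzp : K.map X.subtype = zpowers (g : G) := by
    rw [show K = zpowers g from le_antisymm (fun k hk => by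
      obtain ⟨i, hi⟩ := mem_zpowers_iff.1 (hg ⟨k, hk⟩)
      exact mem_zpowers_iff.2 ⟨i, by simpa using congrArg Subtype.val hi⟩) (zpowers_le.2 hgK),
      MonoidHom.map_zpowers]
    rfl
  have hfx := fix_of_cyclic hy.two hy.odd (g : X).2 fun h hh => by
    rw [← hzp]; exact char_invariant hy.norm K h hh _ ⟨g, hgK, rfl⟩
  intro h hh k hk
  rw [hzp] at hk
  obtain ⟨i, rfl⟩ := mem_zpowers_iff.1 hk
  rw [← conj_zpow, hfx h hh]

theorem Hyp.core (hy : Hyp X H) (hna : ∃ u v : X, u * v ≠ v * u) :
    frattini X = center X ∧ _root_.commutator X = center X ∧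
      (∀ z ∈ center X, z * z = 1) ∧
      (Nat.card (center X) = 2 ∨ Nat.card (center X) = 4) := by
  haveI : Fact (Nat.Prime 2) := ⟨Nat.prime_two⟩
  haveI : Nontrivial X := by
    obtain ⟨u, v, huv⟩ := hna
    exact ⟨⟨u * v, v * u, huv⟩⟩
  have hX := hy.two
  set F := frattini X with hF
  have hsm : ∀ K : Subgroup X, K.Characteristic → K ≠ ⊤ → ¬ Eight K := fun K hKc hK h8 =>
    hy.small _ (map_subtype_le K) (map_subtype_ne hK)
      (fun h hh => @char_invariant G _ _ X H hy.norm K hKc h hh)
      (eight_map X.subtype X.subtype_injective h8)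
  haveI hFc : F.Characteristic := by rw [hF]; infer_instance
  have hFtop : F ≠ ⊤ := CfsgLib.PGroup.frattini_ne_top hX
  -- the Frattini subgroup is central
  have hFZ : F ≤ center X := by
    have hkey : ∀ x ∈ X, ∀ f ∈ F.map X.subtype, x * f = f * x := by
      have hnorm : ∀ x ∈ X, ∀ f ∈ F.map X.subtype, x * f * x⁻¹ ∈ F.map X.subtype := by
        rintro x hx _ ⟨f, hf, rfl⟩
        exact ⟨⟨x, hx⟩ * f * ⟨x, hx⟩⁻¹, (inferInstance : F.Normal).conj_mem f hf _, rfl⟩
      by_cases hcyc : IsCyclic F
      · exact central_of_fixed hy.gen hnorm (hy.fixed_of_cyclic F hcyc)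
      have hF4 : Nat.card F = 4 := by
        have h1 := ((cyclic_of_le_frattini hX F le_rfl (hsm F hFc hFtop)).resolve_left hcyc)
        have h2 : ¬ Nat.card F < 4 := fun h => hcyc (isCyclic_of_card_lt hX F h)
        omega
      have hFne : F ≠ ⊥ := fun h => by rw [h, card_bot] at hF4; omega
      obtain ⟨Z, hZF, hZc, -, hZ⟩ := CfsgLib.PGroup.exists_card_eq_le_center hX F hFne
      obtain ⟨z, hz, hz1⟩ := Z.bot_or_exists_ne_one.resolve_left
        (fun h => by rw [h, card_bot] at hZ; omega)
      have hz2 : (z : G) * z = 1 := by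
        have := orderOf_dvd_natCard (⟨z, hz⟩ : Z)
        rw [hZ, orderOf_dvd_iff_pow_eq_one, pow_two] at this
        exact congrArg (fun w : Z => ((w : X) : G)) this
      have hzc : ∀ x ∈ X, x * (z : G) * x⁻¹ = z := fun x hx => by
        have : x * (z : G) = z * x := congrArg Subtype.val (mem_center_iff.1 (hZc hz) ⟨x, hx⟩)
        rw [this, mul_inv_cancel_right]
      have hE4 : Nat.card (F.map X.subtype) = 4 := by
        rw [card_map_of_injective X.subtype_injective, hF4]
      have hinv := char_invariant hy.norm F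
      intro x hx f hf
      let C : Subgroup G := centralizer (F.map X.subtype : Set G)
      have hC : ∀ u, u ∈ C ↔ ∀ e ∈ F.map X.subtype, u * e * u⁻¹ = e := fun u => by
        rw [mem_centralizer_iff]
        exact forall₂_congr fun e _ => ⟨fun h => by rw [← h, mul_inv_cancel_right],
          fun h => (mul_inv_eq_iff_eq_mul.1 h).symm⟩
      have hle : ⁅X, H⁆ ≤ C := by
        rw [commutator_le]
        intro u hu h hh
        have hv : h * u⁻¹ * h⁻¹ ∈ X := hy.norm h hh _ (inv_mem hu)
        rw [commutatorElement_def, show u * h * u⁻¹ * h⁻¹ = u * (h * u⁻¹ * h⁻¹) by group]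
        by_cases huC : u ∈ C
        · refine mul_mem huC ((hC _).2 fun e he => ?_)
          have h1 : h⁻¹ * e * h ∈ F.map X.subtype := by simpa using hinv h⁻¹ (inv_mem hh) e he
          have h2 := (hC _).1 (inv_mem huC) _ h1
          calc h * u⁻¹ * h⁻¹ * e * (h * u⁻¹ * h⁻¹)⁻¹
              = h * (u⁻¹ * (h⁻¹ * e * h) * u⁻¹⁻¹) * h⁻¹ := by group
            _ = e := by rw [h2]; group
        · have hvC : h * u⁻¹ * h⁻¹ ∉ C := fun hvC => huC ((hC u).2 fun e he => by
            have h1 := (hC _).1 (inv_mem hvC) _ (hinv h hh e he)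
            calc u * e * u⁻¹
                = h⁻¹ * ((h * u⁻¹ * h⁻¹)⁻¹ * (h * e * h⁻¹) * (h * u⁻¹ * h⁻¹)⁻¹⁻¹) * h := by group
              _ = e := by rw [h1]; group)
          exact (hC _).2 (transv_mul hE4 ⟨z, hZF hz, rfl⟩ (fun h => hz1 (Subtype.ext h)) hz2
            (hnorm u hu) (hzc u hu) (hnorm _ hv) (hzc _ hv) (fun h => huC ((hC u).2 h))
            (fun h => hvC ((hC _).2 h)))
      exact (mem_centralizer_iff.1 (hle (hy.gen hx)) f hf).symm
    intro f hf
    exact mem_center_iff.2 fun x => Subtype.ext (hkey x x.2 f ⟨f, hf, rfl⟩)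
  have hcomF : _root_.commutator X ≤ F := CfsgLib.PGroup.commutator_le_frattini hX
  have hcom : ∀ a b : X, ⁅a, b⁆ ∈ center X := fun a b =>
    hFZ (hcomF (commutator_mem_commutator (mem_top a) (mem_top b)))
  have hcomne : _root_.commutator X ≠ ⊥ := fun h => by
    obtain ⟨u, v, huv⟩ := hna
    have := commutator_mem_commutator (G := X) (mem_top u) (mem_top v)
    rw [← commutator_def, h, mem_bot] at this
    exact huv (commutatorElement_eq_one_iff_mul_comm.1 this)
  have hFne : F ≠ ⊥ := fun h => hcomne (le_bot_iff.1 (h ▸ hcomF))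
  have hsqF : ∀ a : X, a * a ∈ F := fun a => by
    rw [← pow_two]; exact CfsgLib.PGroup.pow_mem_frattini hX a
  -- the centre
  have hZtop : center X ≠ ⊤ := fun h => by
    obtain ⟨u, v, huv⟩ := hna
    exact huv (mem_center_iff.1 (h ▸ mem_top v : v ∈ center X) u)
  have hZs := abelian_cyclic_or_le_four hX (center X)
    (fun a _ b hb => mem_center_iff.1 hb a) (hsm (center X) inferInstance hZtop)
  have hZF : center X = F := by
    refine (eq_or_lt_of_le hFZ).elim Eq.symm fun hlt => ?_
    have hfix : ∀ h ∈ H, ∀ k ∈ (center X).map X.subtype, h * k * h⁻¹ = k := by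
      by_cases hcyc : IsCyclic (center X)
      · exact hy.fixed_of_cyclic _ hcyc
      have hc4 : Nat.card (center X) = 4 := by
        have h1 := hZs.resolve_left hcyc
        have h2 : ¬ Nat.card (center X) < 4 := fun h => hcyc (isCyclic_of_card_lt hX _ h)
        omega
      have hFlt : Nat.card F < 4 := by
        by_contra h
        exact hlt.ne (eq_of_le_of_card_ge hlt.le (by omega))
      obtain ⟨f, hf, hf1⟩ := F.bot_or_exists_ne_one.resolve_left hFne
      exact fix_of_four hy.two hy.odd (map_subtype_le _)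
        (by rw [card_map_of_injective X.subtype_injective, hc4]) (char_invariant hy.norm _)
        (z := (f : G)) ⟨f, hFZ hf, rfl⟩ (fun h => hf1 (Subtype.ext h))
        (fun h hh => hy.fixed_of_cyclic F (isCyclic_of_card_lt hX F hFlt) h hh _ ⟨f, hf, rfl⟩)
    refine le_antisymm ?_ hFZ
    intro z hz
    rw [hF, frattini, Order.radical]
    simp only [Subgroup.mem_iInf]
    intro M hM
    haveI := CfsgLib.PGroup.normal_of_isCoatom hX hM
    let e : X ⧸ M ≃* Multiplicative (ZMod 2) := mulEquivOfPrimeCardEq (p := 2)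
      (by rw [← Subgroup.index_eq_card, CfsgLib.PGroup.index_of_isCoatom hX hM]) (by simp)
    have := hom_fixed_eq_one hy.odd hy.gen hy.norm (e.toMonoidHom.comp (QuotientGroup.mk' M))
      z.2 (fun h hh => hfix h hh _ ⟨z, hz, rfl⟩)
    rw [MonoidHom.comp_apply, MulEquiv.coe_toMonoidHom, EmbeddingLike.map_eq_one_iff,
      QuotientGroup.mk'_apply, QuotientGroup.eq_one_iff] at this
    exact this
  -- commutators have exponent two
  have hce : ∀ a ∈ _root_.commutator X, a * a = 1 := by
    intro a ha
    rw [commutator_eq_closure] at ha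
    induction ha using Subgroup.closure_induction with
    | mem a ha =>
      obtain ⟨u, v, rfl⟩ := ha
      rw [← CfsgLib.PGroup.comm_mul_left (hcom u v), commutatorElement_eq_one_iff_mul_comm]
      exact (mem_center_iff.1 (hFZ (hsqF u)) v).symm
    | one => simp
    | mul a b hA hB iha ihb =>
      have hac : b * a = a * b := mem_center_iff.1 (hFZ (hcomF (by rw [commutator_eq_closure]; exact hA))) b
      rw [mul_assoc, ← mul_assoc b, hac, mul_assoc a b, ihb, mul_one, iha]
    | inv a _ iha => rw [← mul_inv_rev, iha, inv_one]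
  have hfixsq : (∀ h ∈ H, ∀ f ∈ F.map X.subtype, h * f * h⁻¹ = f) → F ≤ _root_.commutator X := by
    intro hfix
    refine CfsgLib.Solvable.frattini_le_of_elementary (p := 2) _ le_rfl fun x => ?_
    let K : Subgroup X :=
      { carrier := {a | a * a ∈ _root_.commutator X}
        one_mem' := by simp
        mul_mem' := fun {a b} ha hb => by
          show a * b * (a * b) ∈ _root_.commutator X
          have h1 := hcom b a
          rw [show a * b * (a * b) = a * (⁅b, a⁆ * a) * (b * b) by
            rw [commutatorElement_def]; group, ← mul_assoc a, mem_center_iff.1 h1 a,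
            mul_assoc ⁅b, a⁆ a a]
          exact mul_mem (mul_mem (commutator_mem_commutator (mem_top b) (mem_top a)) ha) hb
        inv_mem' := fun {a} ha => by
          show a⁻¹ * a⁻¹ ∈ _root_.commutator X
          rw [← mul_inv_rev]; exact inv_mem ha }
    have hle : ⁅X, H⁆ ≤ K.map X.subtype := by
      rw [commutator_le]
      intro u hu h hh
      have hv : h * u⁻¹ * h⁻¹ ∈ X := hy.norm h hh _ (inv_mem hu)
      refine ⟨⟨u, hu⟩ * ⟨_, hv⟩, ?_, by simp [commutatorElement_def, mul_assoc]⟩
      show _ * _ ∈ _root_.commutator X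
      set a : X := ⟨u, hu⟩ with ha
      set b : X := ⟨h * u⁻¹ * h⁻¹, hv⟩ with hb
      have hbb : b * b = (a * a)⁻¹ := by
        apply Subtype.ext
        have := hfix h hh ((a * a)⁻¹ : X) ⟨_, inv_mem (hsqF a), rfl⟩
        simp only [ha, hb, Subgroup.coe_mul, InvMemClass.coe_inv] at this ⊢
        rw [← this]; group
      rw [show a * b * (a * b) = a * (⁅b, a⁆ * a) * (b * b) by rw [commutatorElement_def]; group,
        hbb, ← mul_assoc a, mem_center_iff.1 (hcom b a) a, mul_assoc ⁅b, a⁆ a a,
        mul_inv_cancel_right]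
      exact commutator_mem_commutator (mem_top b) (mem_top a)
    obtain ⟨v, hv, hvx⟩ := hle (hy.gen x.2)
    rw [pow_two, ← show v = x from Subtype.ext hvx]
    exact hv
  have hFC : F = _root_.commutator X := by
    refine le_antisymm ?_ hcomF
    by_cases hcyc : IsCyclic F
    · exact hfixsq (hy.fixed_of_cyclic F hcyc)
    by_cases hcc : IsCyclic (_root_.commutator X)
    · obtain ⟨c, hc, hc1⟩ := (_root_.commutator X).bot_or_exists_ne_one.resolve_left hcomne
      have hF4 : Nat.card F = 4 := by
        have h1 := ((cyclic_of_le_frattini hX F le_rfl (hsm F hFc hFtop)).resolve_left hcyc)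
        have h2 : ¬ Nat.card F < 4 := fun h => hcyc (isCyclic_of_card_lt hX F h)
        omega
      exact hfixsq (fix_of_four hy.two hy.odd (map_subtype_le _)
        (by rw [card_map_of_injective X.subtype_injective, hF4]) (char_invariant hy.norm F)
        (z := (c : G)) ⟨c, hcomF hc, rfl⟩ (fun h => hc1 (Subtype.ext h))
        (fun h hh => hy.fixed_of_cyclic _ hcc h hh _ ⟨c, hc, rfl⟩))
    · have h1 : ¬ Nat.card (_root_.commutator X) < 4 := fun h => hcc (isCyclic_of_card_lt hX _ h)
      have h2 := ((cyclic_of_le_frattini hX F le_rfl (hsm F hFc hFtop)).resolve_left hcyc)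
      exact (eq_of_le_of_card_ge hcomF (by omega)).ge
  refine ⟨hZF.symm, by rw [hZF, ← hFC], fun z hz => hce z (by rw [← hFC, ← hZF]; exact hz), ?_⟩
  rw [hZF]
  have hne1 : Nat.card F ≠ 1 := fun h => hFne (eq_bot_of_card_eq _ h)
  obtain ⟨n, hn⟩ := IsPGroup.iff_card.1 (hX.to_subgroup F)
  have hn2 : n ≤ 2 := by
    by_contra hh
    have h8 : 8 ≤ Nat.card F := hn ▸ (Nat.pow_le_pow_right two_pos (show 3 ≤ n by omega))
    rcases cyclic_of_le_frattini hX F le_rfl (hsm F hFc hFtop) with hcyc | h
    · obtain ⟨g, hg⟩ := hcyc.exists_generator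
      have h2 : g * g = 1 := Subtype.ext (hce g (hFC ▸ g.2))
      have := orderOf_dvd_of_pow_eq_one (pow_two g ▸ h2)
      rw [orderOf_eq_card_of_forall_mem_zpowers hg] at this
      have := Nat.le_of_dvd two_pos this
      omega
    · omega
  interval_cases n <;> simp_all

theorem centralizer_index_le {T : Type*} [Group T] [Finite T] (hc : _root_.commutator T ≤ center T)
    (hz : Nat.card (center T) = 2) (x : T) :
    Nat.card T ≤ 2 * Nat.card (centralizer ({x} : Set T)) := by
  have hc' : ∀ a b : T, ⁅a, b⁆ ∈ center T := fun a b =>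
    hc (commutator_mem_commutator (mem_top a) (mem_top b))
  let ψ : T →* center T :=
    { toFun := fun a => ⟨⁅a, x⁆, hc' a x⟩
      map_one' := Subtype.ext (by simp)
      map_mul' := fun a b => Subtype.ext (CfsgLib.PGroup.comm_mul_left (hc' b x)) }
  have hker : ψ.ker = centralizer ({x} : Set T) := by
    ext a
    rw [MonoidHom.mem_ker, mem_centralizer_singleton_iff]
    exact ⟨fun h => commutatorElement_eq_one_iff_mul_comm.1 (congrArg Subtype.val h),
      fun h => Subtype.ext (commutatorElement_eq_one_iff_mul_comm.2 h)⟩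
  have h1 := Subgroup.card_mul_index ψ.ker
  rw [Subgroup.index_ker] at h1
  have h2 := Subgroup.card_le_of_le (le_top : ψ.range ≤ ⊤)
  rw [Subgroup.card_top, hz] at h2
  rw [← h1, hker]
  rw [mul_comm 2]
  exact Nat.mul_le_mul_left _ h2

/-- An extraspecial group does not have order sixteen. -/
theorem card_ne_sixteen {T : Type*} [Group T] [Finite T] (hT : IsPGroup 2 T)
    (hc : _root_.commutator T ≤ center T) (hz : Nat.card (center T) = 2) : Nat.card T ≠ 16 := by
  haveI : Fact (Nat.Prime 2) := ⟨Nat.prime_two⟩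
  intro h16
  obtain ⟨x, hx⟩ : ∃ x, x ∉ center T := by
    by_contra h
    push Not at h
    have := Subgroup.card_le_of_le (fun u _ => h u : (⊤ : Subgroup T) ≤ center T)
    rw [Subgroup.card_top] at this
    omega
  set A := centralizer ({x} : Set T) with hA
  have hA8 : Nat.card A = 8 := by
    have h1 := centralizer_index_le hc hz x
    have h2 : A ≠ ⊤ := fun h => hx (mem_center_iff.2 fun u =>
      mem_centralizer_singleton_iff.1 (h ▸ mem_top u : u ∈ A))
    have h4 := A.card_mul_index
    have h5 : A.index ≠ 1 := fun h => h2 (index_eq_one.1 h)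
    have h6 : 0 < A.index := Nat.pos_of_ne_zero Subgroup.index_ne_zero_of_finite
    rw [h16] at h4 h1
    rw [← hA] at h1
    have h7 : A.index ≤ 2 := by
      have : 8 ≤ Nat.card A := by omega
      nlinarith
    interval_cases hv : A.index <;> omega
  set Zx := center T ⊔ zpowers x with hZx
  have hzA : center T ≤ A := fun u hu =>
    mem_centralizer_singleton_iff.2 (mem_center_iff.1 hu x).symm
  -- `A` is abelian: its centre contains `Z` and `x`, so has index at most two
  have hxA : x ∈ A := mem_centralizer_singleton_iff.2 rfl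
  have hle : Zx.subgroupOf A ≤ center A := by
    intro u hu
    refine mem_center_iff.2 fun a => Subtype.ext ?_
    have : Zx ≤ centralizer ({(a : T)} : Set T) := sup_le
      (fun v hv => mem_centralizer_singleton_iff.2 (mem_center_iff.1 hv a).symm)
      (zpowers_le.2 (mem_centralizer_singleton_iff.2 (mem_centralizer_singleton_iff.1 a.2).symm))
    exact (mem_centralizer_singleton_iff.1 (this hu)).symm
  have hZx : 4 ≤ Nat.card Zx := by
    have hlt : center T < Zx := lt_of_le_of_ne le_sup_left
      fun e => hx (e ▸ mem_sup_right (mem_zpowers x))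
    obtain ⟨k, hk⟩ := card_dvd_of_le hlt.le
    have h1 : k ≠ 1 := fun e => hlt.ne (eq_of_le_of_card_ge hlt.le (by rw [hk, e, mul_one]))
    have h0 : k ≠ 0 := fun e => by
      rw [e, mul_zero] at hk; exact Nat.card_pos.ne' hk
    rw [hk, hz]; omega
  have hcA : 4 ≤ Nat.card (center A) := by
    refine le_trans ?_ (Subgroup.card_le_of_le hle)
    rwa [Nat.card_congr (Subgroup.subgroupOfEquivOfLe (sup_le hzA (zpowers_le.2 hxA))).toEquiv]
  have hAab : ∀ a b : A, a * b = b * a := by
    have hcyc : IsCyclic (A ⧸ center A) := by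
      have h1 := (center A).card_mul_index
      rw [hA8] at h1
      have h3 : (center A).index ≤ 2 := by nlinarith
      rcases Nat.lt_or_ge (center A).index 2 with h | h
      · haveI : Subsingleton (A ⧸ center A) := by
          refine Finite.card_le_one_iff_subsingleton.1 ?_
          rw [← Subgroup.index_eq_card]; omega
        infer_instance
      · exact isCyclic_of_prime_card (p := 2) (by rw [← Subgroup.index_eq_card]; omega)
    exact fun a b => ((QuotientGroup.mk' (center A)).isMulCommutative_of_isCyclic_of_ker_le_center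
      (by simp)).is_comm.comm a b
  obtain ⟨w, -, hw⟩ := SetLike.exists_of_lt (lt_of_le_of_ne (le_top : A ≤ ⊤)
    fun e => by rw [e, Subgroup.card_top] at hA8; omega)
  have hW := centralizer_index_le hc hz w
  set W := centralizer ({w} : Set T) with hWd
  have hAW : 4 ≤ Nat.card ↥(A ⊓ W) := by
    have h1 : W.relIndex A ≤ W.index := by
      rw [← Subgroup.relIndex_top_right]
      exact Subgroup.relIndex_le_of_le_right le_top Subgroup.index_ne_zero_of_finite
    have h2 := W.card_mul_index
    rw [h16] at h2 hW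
    have h5 := ((A ⊓ W).subgroupOf A).card_mul_index
    rw [Nat.card_congr (Subgroup.subgroupOfEquivOfLe inf_le_left).toEquiv, hA8,
      show ((A ⊓ W).subgroupOf A).index = W.relIndex A by
        rw [← Subgroup.inf_relIndex_right W A, inf_comm]; rfl] at h5
    have h3 : W.index ≤ 2 := by nlinarith
    nlinarith
  obtain ⟨v, hv, hvZ⟩ := SetLike.not_le_iff_exists.1 (fun hle : A ⊓ W ≤ center T => by
    have := Subgroup.card_le_of_le hle; omega)
  -- `v` commutes with `A` and `w`
  refine hvZ (mem_center_iff.2 fun u => ?_)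
  have hsup : A ⊔ zpowers w = ⊤ := by
    apply eq_top_of_card_eq
    have hlt : A < A ⊔ zpowers w := lt_of_le_of_ne le_sup_left
      fun e => hw (e ▸ mem_sup_right (mem_zpowers w))
    obtain ⟨k, hk⟩ := card_dvd_of_le hlt.le
    have h1 : k ≠ 1 := fun e => hlt.ne (eq_of_le_of_card_ge hlt.le (by rw [hk, e, mul_one]))
    have h0 : k ≠ 0 := fun e => by rw [e, mul_zero] at hk; exact Nat.card_pos.ne' hk
    have h2 := Nat.le_of_dvd (by omega) ((A ⊔ zpowers w).card_subgroup_dvd_card)
    rw [h16] at h2
    rw [h16, hk, hA8] at *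
    omega
  have : A ⊔ zpowers w ≤ centralizer ({v} : Set T) := sup_le
    (fun a ha => mem_centralizer_singleton_iff.2
      (congrArg Subtype.val (hAab ⟨a, ha⟩ ⟨v, hv.1⟩)))
    (zpowers_le.2 (mem_centralizer_singleton_iff.2 (mem_centralizer_singleton_iff.1 hv.2).symm))
  exact mem_centralizer_singleton_iff.1 (this (hsup ▸ mem_top u))

theorem nonabelian_eight_q8 {T : Type*} [Group T] [Finite T] (hT : IsPGroup 2 T)
    (h8 : Nat.card T = 8) (hc : _root_.commutator T = center T) (hz : Nat.card (center T) = 2)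
    (σ : MulAut T) (hσ : σ ≠ 1) {m : ℕ} (hm : Odd m) (hσm : σ ^ m = 1) :
    Nonempty (T ≃* QuaternionGroup 2) := by
  refine Cfsg.Agent.S4189.result hT (fun h => ?_) ?_ fun hA => ?_
  · have : center T = ⊤ := (Subgroup.eq_top_iff' _).2 fun u => mem_center_iff.2 fun v => h.is_comm.comm v u
    rw [this, Subgroup.card_top] at hz
    omega
  · have h1 := (_root_.commutator T).card_mul_index
    rw [hc, hz, h8] at h1
    rw [hc]; omega
  · obtain ⟨k, hk⟩ := hA σ
    exact hσ (orderOf_eq_one_iff.1 (Nat.dvd_one.1 ((hm.coprime_two_right.pow_right k).gcd_eq_one ▸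
      Nat.dvd_gcd (orderOf_dvd_of_pow_eq_one hσm) (orderOf_dvd_of_pow_eq_one hk))))

/-- `D = [D, H] ≠ 1` without a noncyclic abelian subgroup of order eight is a four-group or a
quaternion group. -/
theorem small_cases {D H : Subgroup G} (hD : IsPGroup 2 D) (hH : Odd (Nat.card H))
    (hn : ∀ h ∈ H, ∀ x ∈ D, h * x * h⁻¹ ∈ D) (hgen : D ≤ ⁅D, H⁆) (hne : D ≠ ⊥) (h8 : ¬ Eight D) :
    (Nat.card D = 4 ∧ (∀ u ∈ D, ∀ v ∈ D, u * v = v * u) ∧ ∀ u ∈ D, u * u = 1) ∨
      (Nat.card D = 8 ∧ frattini D = center D ∧ _root_.commutator D = center D ∧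
        Nat.card (center D) = 2 ∧ Nonempty (D ≃* QuaternionGroup 2)) := by
  haveI : Fact (Nat.Prime 2) := ⟨Nat.prime_two⟩
  have hy : Hyp D H := ⟨hD, hH, hn, hgen, fun Y hY _ _ h => h8 (h.mono hY)⟩
  have h8' : ¬ Eight (⊤ : Subgroup D) := fun h => h8 (by
    have := eight_map D.subtype D.subtype_injective h
    rwa [← MonoidHom.range_eq_map, D.range_subtype] at this)
  have hmove : ¬ ∀ h ∈ H, ∀ k ∈ D, h * k * h⁻¹ = k := fun h => hne (le_bot_iff.1 (hgen.trans (by
    rw [commutator_le]
    intro x hx k hk
    rw [mem_bot, commutatorElement_def,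
      show x * k * x⁻¹ * k⁻¹ = x * (k * x⁻¹ * k⁻¹) by group, h k hk _ (inv_mem hx), mul_inv_cancel])))
  by_cases hna : ∃ u v : D, u * v ≠ v * u
  · obtain ⟨hFZ, hCZ, hZ2, hcz⟩ := hy.core hna
    right
    have hout : ∃ x : D, x ∉ center D := by
      obtain ⟨u, v, huv⟩ := hna
      exact ⟨v, fun h => huv (mem_center_iff.1 h u)⟩
    rcases hcz with hz | hz
    · have h4 : Nat.card D ≠ 4 := fun h => by
        obtain ⟨u, v, huv⟩ := hna
        exact huv ((IsPGroup.commutative_of_card_eq_prime_sq (p := 2) (by rw [h]; norm_num)) u v)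
      have hcard : Nat.card D = 8 := by
        obtain ⟨n, hn⟩ := IsPGroup.iff_card.1 hD
        obtain ⟨x, hx⟩ := hout
        have hlt : 2 < Nat.card D := by
          by_contra h
          obtain ⟨u, v, huv⟩ := hna
          have : center D = ⊤ := eq_top_of_card_eq _ (le_antisymm (Subgroup.card_le_card_group _) (by omega))
          exact huv (mem_center_iff.1 (this ▸ mem_top v : v ∈ center D) u)
        have h16 : Nat.card D ≠ 16 := card_ne_sixteen hD hCZ.le hz
        by_contra hne8
        have h32 : 32 ≤ Nat.card D := by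
          have hn5 : 5 ≤ n := by
            by_contra h
            interval_cases n <;> omega
          rw [hn]
          exact le_trans (by norm_num) (Nat.pow_le_pow_right two_pos hn5)
        have hC := centralizer_index_le hCZ.le hz x
        let V : Subgroup D := center D ⊔ zpowers x
        have hVC : V ≤ centralizer ({x} : Set D) := sup_le
          (fun u hu => mem_centralizer_singleton_iff.2 (mem_center_iff.1 hu x).symm)
          (zpowers_le.2 (mem_centralizer_singleton_iff.2 rfl))
        have hVc : ∀ u ∈ V, ∀ v ∈ V, u * v = v * u := by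
          intro u hu v hv
          have h1 : V ≤ centralizer ({u} : Set D) := sup_le
            (fun w hw => mem_centralizer_singleton_iff.2 (mem_center_iff.1 hw u).symm)
            (zpowers_le.2 (mem_centralizer_singleton_iff.2
              (mem_centralizer_singleton_iff.1 (hVC hu)).symm))
          exact (mem_centralizer_singleton_iff.1 (h1 hv)).symm
        have hsq : ∀ u : D, u * u ∈ center D := fun u => by
          rw [← hFZ, ← pow_two]; exact CfsgLib.PGroup.pow_mem_frattini hD u
        have hV : Nat.card V = 4 := by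
          have hlt : center D < V := lt_of_le_of_ne le_sup_left
            fun e => hx (e ▸ mem_sup_right (mem_zpowers x))
          have hi : V ≤ center D ⊔ zpowers x := le_rfl
          have h2 : ((center D).subgroupOf V).index ≤ 2 := by
            by_contra hgt
            have hq : IsCyclic (V ⧸ (center D).subgroupOf V) := by
              refine ⟨⟨((⟨x, mem_sup_right (mem_zpowers x)⟩ : V) : V ⧸ _), fun w => ?_⟩⟩
              obtain ⟨⟨w, hw⟩, rfl⟩ := QuotientGroup.mk_surjective w
              rw [mem_sup_of_normal_left] at hw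
              obtain ⟨c, hc, y, hy, rfl⟩ := hw
              obtain ⟨i, rfl⟩ := mem_zpowers_iff.1 hy
              refine mem_zpowers_iff.2 ⟨i, ?_⟩
              rw [← QuotientGroup.mk_zpow, QuotientGroup.eq]
              rw [mem_subgroupOf]
              simp only [Subgroup.coe_mul, InvMemClass.coe_inv, SubgroupClass.coe_zpow]
              rw [← mem_center_iff.1 hc (x ^ i), inv_mul_cancel_left]
              exact hc
            obtain ⟨g, hg⟩ := hq.exists_generator
            obtain ⟨g', rfl⟩ := QuotientGroup.mk_surjective g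
            have h3 := orderOf_dvd_of_pow_eq_one (show ((g' : V ⧸ (center D).subgroupOf V)) ^ 2 = 1 by
              rw [← QuotientGroup.mk_pow, QuotientGroup.eq_one_iff, mem_subgroupOf, pow_two]
              exact hsq _)
            rw [orderOf_eq_card_of_forall_mem_zpowers hg, ← Subgroup.index_eq_card] at h3
            exact hgt (Nat.le_of_dvd two_pos h3)
          have h3 := ((center D).subgroupOf V).card_mul_index
          rw [Nat.card_congr (Subgroup.subgroupOfEquivOfLe hlt.le).toEquiv, hz] at h3
          obtain ⟨k, hk⟩ := card_dvd_of_le hlt.le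
          have h1 : k ≠ 1 := fun e => hlt.ne (eq_of_le_of_card_ge hlt.le (by rw [hk, e, mul_one]))
          have h0 : 0 < Nat.card V := Nat.card_pos
          rw [hz] at hk
          omega
        obtain ⟨y, hy, hyV⟩ := SetLike.exists_of_lt (lt_of_le_of_ne hVC fun e => by
          rw [← e, hV] at hC; omega)
        refine h8' (eight_of_pair le_top hV hVc (c := y) (mem_top _) hyV (mem_sup_left (hsq y))
          (hZ2 _ (hsq y)) (fun v hv => ?_) fun v _ => hZ2 _ (hsq v))
        have : V ≤ centralizer ({y} : Set D) := sup_le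
          (fun w hw => mem_centralizer_singleton_iff.2 (mem_center_iff.1 hw y).symm)
          (zpowers_le.2 (mem_centralizer_singleton_iff.2
            (mem_centralizer_singleton_iff.1 hy).symm))
        exact (mem_centralizer_singleton_iff.1 (this hv)).symm
      refine ⟨hcard, hFZ, hCZ, hz, ?_⟩
      obtain ⟨h, hh, hmv⟩ : ∃ h ∈ H, ¬ ∀ k ∈ D, h * k * h⁻¹ = k := by
        by_contra hcon
        push Not at hcon
        exact hmove hcon
      refine nonabelian_eight_q8 hD hcard hCZ hz
        (conjAut D h (hn h hh) fun x hx => by simpa using hn h⁻¹ (inv_mem hh) x hx) ?_ hH ?_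
      · intro he
        exact hmv fun k hk => by
          have := congrArg (fun τ : MulAut D => ((τ ⟨k, hk⟩ : D) : G)) he
          exact this
      · have key : ∀ m : ℕ, ∀ u : D,
            (((conjAut D h (hn h hh) fun x hx => by simpa using hn h⁻¹ (inv_mem hh) x hx) ^ m :
              MulAut D) u : G) = h ^ m * u * (h ^ m)⁻¹ := by
          intro m
          induction m with
          | zero => intro u; simp
          | succ m ih =>
            intro u
            rw [pow_succ, MulAut.mul_apply, ih]
            show h ^ m * (h * u * h⁻¹) * (h ^ m)⁻¹ = _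
            rw [pow_succ]; group
        ext u
        rw [key, show h ^ Nat.card H = 1 from congrArg Subtype.val (pow_card_eq_one' (x := (⟨h, hh⟩ : H)))]
        simp
    · exfalso
      obtain ⟨x, hx⟩ := hout
      have hsq : ∀ u : D, u * u ∈ center D := fun u => by
        rw [← hFZ, ← pow_two]; exact CfsgLib.PGroup.pow_mem_frattini hD u
      exact h8' (eight_of_pair le_top hz (fun u _ v hv => mem_center_iff.1 hv u) (c := x)
        (mem_top _) hx (hsq x) (hZ2 _ (hsq x)) (fun v hv => mem_center_iff.1 hv x)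
        fun v _ => hZ2 _ (hsq v))
  · push Not at hna
    left
    have hc : ∀ u ∈ D, ∀ v ∈ D, u * v = v * u := fun u hu v hv =>
      congrArg Subtype.val (hna ⟨u, hu⟩ ⟨v, hv⟩)
    have hnc : ¬ IsCyclic (⊤ : Subgroup D) := fun h => hmove (by
      have := hy.fixed_of_cyclic ⊤ h
      rwa [← MonoidHom.range_eq_map, D.range_subtype] at this)
    have h4 := ((abelian_cyclic_or_le_four hD ⊤ (fun u _ v _ => hna u v) h8').resolve_left hnc)
    have h4' : ¬ Nat.card (⊤ : Subgroup D) < 4 := fun h => hnc (isCyclic_of_card_lt hD _ h)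
    rw [Subgroup.card_top] at h4 h4'
    refine ⟨by omega, hc, fun u hu => ?_⟩
    have hd := orderOf_dvd_natCard (⟨u, hu⟩ : D)
    rw [show Nat.card D = 4 by omega] at hd
    by_contra hne'
    have ho : orderOf (⟨u, hu⟩ : D) = 2 ^ (1 + 1) := orderOf_eq_prime_pow
      (by rw [pow_one, pow_two]; exact fun h => hne' (congrArg Subtype.val h))
      (orderOf_dvd_iff_pow_eq_one.1 (by simpa using hd))
    refine hnc ?_
    haveI : IsCyclic D := isCyclic_of_orderOf_eq_card (⟨u, hu⟩ : D)
      (by rw [ho]; norm_num; omega)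
    infer_instance

end CfsgLib.PGroup.MinimalEight
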