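import Cfsg.Agent.Lib.PGroup.MinimalEight.Main

/-!
The Sylow `2`-subgroup is normal.
-/

set_option autoImplicit false

namespace CfsgLib.PGroup.MinimalEight

open Subgroup Cfsg
open scoped commutatorElement

variable {S : Type*} [Group S] [Finite S]

theorem eight_le_sylow (X : Sylow 2 S) {A : Subgroup S} (hc : IsMulCommutative ↥A)
    (hn : ¬ IsCyclic ↥A) (h8 : Nat.card ↥A = 8) : Eight (X : Subgroup S) := by
  haveI : Fact (Nat.Prime 2) := ⟨Nat.prime_two⟩
  obtain ⟨R, hR⟩ := (IsPGroup.of_card (p := 2) (n := 3) (G := A) h8).exists_le_sylow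
  obtain ⟨g, hg⟩ := MulAction.exists_smul_eq S R X
  have hmap : (R : Subgroup S).map (MulAut.conj g).toMonoidHom = X := by
    rw [← hg, Sylow.coe_subgroup_smul]; rfl
  exact hmap ▸ eight_map _ (MulAut.conj g).injective (Y := (R : Subgroup S)) ⟨A, hR, hc, hn, h8⟩

theorem exists_normal_conj {O : Subgroup S} [O.Normal] {x : S} :
    ∀ e ∈ O, x * e * x⁻¹ ∈ O := fun e he => Subgroup.Normal.conj_mem inferInstance e he x

theorem pCore_has_eight [Group.IsSolvable S] (hO : pPrimeCore 2 S = ⊥) (X : Sylow 2 S)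
    (hX : Eight (X : Subgroup S)) : Eight (pCore 2 S) := by
  haveI : Fact (Nat.Prime 2) := ⟨Nat.prime_two⟩
  by_contra hno
  set O := pCore 2 S with hOdef
  have hC : centralizer (O : Set S) ≤ O := CfsgLib.Solvable.centralizer_pCore_le 2 hO
  have hO2 : IsPGroup 2 O := CfsgLib.Cores.isPGroup_pCore 2
  have hOX : O ≤ X := CfsgLib.Cores.pCore_le_sylow X
  -- an element of odd order
  obtain ⟨h, hh1, hho⟩ : ∃ h : S, h ≠ 1 ∧ Odd (orderOf h) := by
    by_contra hcon
    push Not at hcon
    have hS2 : IsPGroup 2 S := by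
      intro g
      set k := (orderOf g).factorization 2
      set m := ordCompl[2] (orderOf g)
      have hg0 : orderOf g ≠ 0 := (orderOf_pos g).ne'
      refine ⟨k, by_contra fun hne => ?_⟩
      have hm : orderOf (g ^ 2 ^ k) = m := by
        rw [orderOf_pow' _ (pow_ne_zero _ two_ne_zero), Nat.gcd_eq_right (Nat.ordProj_dvd _ _)]
      have hodd : Odd (orderOf (g ^ 2 ^ k)) := by
        rw [hm, ← Nat.not_even_iff_odd, even_iff_two_dvd]
        exact Nat.not_dvd_ordCompl Nat.prime_two hg0
      exact hcon _ hne hodd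
    exact hno (hX.mono (le_top.trans (CfsgLib.Cores.pCore_eq_top_iff.2 hS2).ge))
  set Z := zpowers h with hZdef
  have hZo : Odd (Nat.card Z) := by rw [Nat.card_zpowers]; exact hho
  have hn : ∀ g ∈ Z, ∀ x ∈ O, g * x * g⁻¹ ∈ O := fun g _ => exists_normal_conj
  have hZn : Z ≤ normalizer (O : Set S) := le_normalizer_of hn
  have hcop := coprime_of_two hO2 hZo
  have hs := isSolvable_of_two hO2
  set D := ⁅O, Z⁆ with hD
  have hDO : D ≤ O := CfsgLib.Solvable.commutator_le_of_le_normalizer hZn
  have hDne : D ≠ ⊥ := fun he => hh1 (by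
    have hc : h ∈ O := hC (mem_centralizer_iff.2 fun x hx => commutatorElement_eq_one_iff_mul_comm.1
      (mem_bot.1 (he ▸ commutator_mem_commutator hx (mem_zpowers h))))
    obtain ⟨k, hk⟩ := hO2 ⟨h, hc⟩
    exact eq_one_of_pow (congrArg Subtype.val hk) hho)
  have hDn : ∀ g ∈ Z, ∀ x ∈ D, g * x * g⁻¹ ∈ D := fun g hg x hx =>
    (mem_normalizer_iff.1 (CfsgLib.Solvable.le_normalizer_commutator_right hZn hg) x).1 hx
  have hOD : ∀ x ∈ O, ∀ d ∈ D, x * d * x⁻¹ ∈ D := fun x hx d hd =>
    (mem_normalizer_iff.1 (CfsgLib.Solvable.le_normalizer_commutator_left O Z hx) d).1 hd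
  obtain ⟨F, hS⟩ := small_of (hO2.to_le hDO) hZo hDn
    (CfsgLib.Solvable.commutator_commutator_self hZn hcop (Or.inr hs)).ge hDne
    (fun h8 => hno (h8.mono hDO))
  have hcen : ∀ c ∈ O ⊓ centralizer (Z : Set S), ∀ d ∈ D, c * d = d * c := by
    intro c hc
    have hcZ : ∀ g ∈ Z, c * g = g * c := fun g hg => (mem_centralizer_iff.1 hc.2 g hg).symm
    refine hS.centralizes hO2 hDO hc.1 (hOD c hc.1) (fun f hf => ?_) hcZ
    refine hS.fpf_all (hOD c hc.1 f (hS.le hf)) fun g hg => ?_
    calc g * (c * f * c⁻¹) * g⁻¹ = (g * c) * f * (g * c)⁻¹ := by group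
      _ = (c * g) * f * (c * g)⁻¹ := by rw [hcZ g hg]
      _ = c * (g * f * g⁻¹) * c⁻¹ := by group
      _ = c * f * c⁻¹ := by rw [hS.fixed g hg f hf]
  -- `O = D`
  have hOeq : O = D := by
    by_contra hne
    obtain ⟨c₀, hc₀, hc₀D⟩ : ∃ c ∈ O ⊓ centralizer (Z : Set S), c ∉ D := by
      by_contra hcon
      push Not at hcon
      apply hne
      refine le_antisymm (fun x hx => ?_) hDO
      obtain ⟨d, hd, c, hc, rfl⟩ :=
        CfsgLib.Solvable.exists_commutator_mul_centralizer hZn hcop (Or.inr hs) hx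
      exact mul_mem hd (hcon c hc)
    obtain ⟨j, hj1, hj2⟩ := CfsgLib.Solvable.exists_notMem_pow_mem (p := 2) hO2
      (H := D.subgroupOf O) (g := ⟨c₀, hc₀.1⟩) hc₀D
    set c := c₀ ^ 2 ^ j with hcdef
    have hc : c ∈ O ⊓ centralizer (Z : Set S) := pow_mem hc₀ _
    have hcD : c ∉ D := fun h' => hj1 (by rw [mem_subgroupOf]; simpa [hcdef] using h')
    have hc2 : c * c ∈ D := by
      rw [mem_subgroupOf, pow_two] at hj2
      simpa [hcdef] using hj2
    have hcc : c * c ∈ F := hS.fpf_all hc2 fun g hg => by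
      rw [show g * (c * c) * g⁻¹ = (g * c) * c * g⁻¹ by group,
        ← mem_centralizer_iff.1 hc.2 g hg |>.symm]
      rw [mul_assoc c g c, mem_centralizer_iff.1 hc.2 g hg]
      group
    rcases hS.cases with ⟨hF, hDc, hDe⟩ | ⟨hF, hnc, ⟨e⟩⟩
    · have h4 : Nat.card D = 4 := by rw [hS.card, hF, card_bot]
      rw [hF, mem_bot] at hcc
      exact hno (eight_of_pair hDO h4 hDc hc.1 hcD hc2 (by rw [hcc, one_mul]) (hcen c hc)
        fun v hv => by rw [hDe v hv, one_mul])
    · obtain ⟨i, hi, hiF⟩ := SetLike.not_le_iff_exists.1 (fun hle : D ≤ F => by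
        have := Subgroup.card_le_of_le hle; rw [hS.card, hF] at this; omega)
      have hall : ∀ u : QuaternionGroup 2, u ^ 4 = 1 := by decide
      have hi4 : i ^ 4 = 1 := congrArg Subtype.val (show (⟨i, hi⟩ : D) ^ 4 = 1 from
        e.injective (by rw [map_pow, map_one, hall]))
      have hi2 : i * i ≠ 1 := fun h' => hiF ((hS.sq i hi h').resolve_right (by omega))
      have hii : i * i ∈ F := (hS.sq _ (mul_mem hi hi)
        (by rw [show i * i * (i * i) = i ^ 4 by simp [pow_succ, mul_assoc]]; exact hi4)).resolve_right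
        (by omega)
      have hV : Nat.card (zpowers i) = 4 := by
        rw [Nat.card_zpowers, orderOf_eq_prime_pow (p := 2) (n := 1)
          (by rw [pow_one, pow_two]; exact hi2) (by norm_num; exact hi4)]
        norm_num
      have hccz : ∀ u ∈ F, u ∈ zpowers i ∧ u * u = 1 := by
        intro u hu
        refine ⟨?_, ?_⟩
        · have := mem_zpowers_of_prime_card (p := 2) hF (g := (⟨i * i, hii⟩ : F)) (g' := ⟨u, hu⟩)
            (fun e => hi2 (congrArg Subtype.val e))
          obtain ⟨m, hm⟩ := mem_zpowers_iff.1 this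
          rw [← show (i * i) ^ m = u by simpa using congrArg Subtype.val hm]
          exact zpow_mem (mul_mem (mem_zpowers i) (mem_zpowers i)) m
        · have := orderOf_dvd_natCard (⟨u, hu⟩ : F)
          rw [hF, orderOf_dvd_iff_pow_eq_one, pow_two] at this
          exact congrArg Subtype.val this
      exact hno (eight_of_pair ((zpowers_le.2 hi).trans hDO) hV
        (fun u hu v hv => by
          obtain ⟨a, rfl⟩ := mem_zpowers_iff.1 hu
          obtain ⟨b, rfl⟩ := mem_zpowers_iff.1 hv
          exact ((Commute.refl i).zpow_zpow a b).eq)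
        hc.1 (fun h' => hcD (zpowers_le.2 hi h')) (hccz _ hcc).1 (hccz _ hcc).2
        (fun v hv => hcen c hc v (zpowers_le.2 hi hv))
        fun v hv => by
          obtain ⟨a, rfl⟩ := mem_zpowers_iff.1 hv
          rw [show i ^ a * i ^ a * (i ^ a * i ^ a) = (i ^ 4) ^ a by
            rw [← zpow_natCast, ← zpow_mul, ← zpow_add, ← zpow_add]; congr 1; push_cast; ring,
            hi4, one_zpow])
  clear hcen
  rw [← hOeq] at hS
  obtain ⟨A, hAX, hAc, hAn, hA8⟩ := hX
  have hXn : ∀ x ∈ (X : Subgroup S), ∀ e ∈ O, x * e * x⁻¹ ∈ O := fun x _ => exists_normal_conj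
  have hAab : ∀ u ∈ A, ∀ v ∈ A, u * v = v * u := fun u hu v hv =>
    congrArg Subtype.val (hAc.is_comm.comm (⟨u, hu⟩ : A) ⟨v, hv⟩)
  rcases hS.cases with ⟨hF, hDc, hDe⟩ | ⟨hF, hnc, ⟨e⟩⟩
  · -- `O` a four-group
    have h4 : Nat.card O = 4 := by rw [hS.card, hF, card_bot]
    have hne : O.subgroupOf (X : Subgroup S) ≠ ⊥ := fun he => by
      have := congrArg (fun K : Subgroup (X : Subgroup S) => Nat.card K) he
      simp only [Nat.card_congr (Subgroup.subgroupOfEquivOfLe hOX).toEquiv, h4, card_bot] at this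
      omega
    haveI : (O.subgroupOf (X : Subgroup S)).Normal := ⟨fun u hu k => hXn k k.2 u hu⟩
    obtain ⟨z, ⟨hzO, hzc⟩, hz1⟩ := (_ : Subgroup (X : Subgroup S)).bot_or_exists_ne_one.resolve_left
      (CfsgLib.PGroup.inf_center_ne_bot X.2 _ hne)
    have hzx : ∀ x ∈ (X : Subgroup S), x * (z : S) * x⁻¹ = z := fun x hx => by
      rw [show x * (z : S) = z * x from congrArg Subtype.val (mem_center_iff.1 hzc ⟨x, hx⟩),
        mul_inv_cancel_right]
    have hmoves : ∀ x ∈ (X : Subgroup S), x ∉ O → ¬ ∀ e ∈ O, x * e * x⁻¹ = e := fun x _ hxO hh =>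
      hxO (hC (mem_centralizer_iff.2 fun e he => (mul_inv_eq_iff_eq_mul.1 (hh e he)).symm))
    have hprod : ∀ x ∈ (X : Subgroup S), ∀ y ∈ (X : Subgroup S), x ∉ O → y ∉ O → x * y ∈ O := by
      intro x hx y hy hxO hyO
      refine hC (mem_centralizer_iff.2 fun e he => (mul_inv_eq_iff_eq_mul.1 ?_).symm)
      exact transv_mul h4 hzO (fun h' => hz1 (Subtype.ext h')) (hDe _ hzO) (hXn x hx) (hzx x hx)
        (hXn y hy) (hzx y hy) (hmoves x hx hxO) (hmoves y hy hyO) e he
    have hidx : (O.subgroupOf (X : Subgroup S)).index ≤ 2 := by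
      by_cases hall : ∀ x ∈ (X : Subgroup S), x ∈ O
      · rw [show O.subgroupOf (X : Subgroup S) = ⊤ from (Subgroup.eq_top_iff' _).2 fun u => hall u u.2,
          index_top]
        norm_num
      push Not at hall
      obtain ⟨x, hx, hxO⟩ := hall
      refine le_of_eq (Subgroup.index_eq_two_iff.2 ⟨⟨x, hx⟩, fun ⟨b, hb⟩ => ?_⟩)
      simp only [mem_subgroupOf, MulMemClass.mk_mul_mk]
      by_cases hbO : b ∈ O
      · refine Or.inr ⟨hbO, fun h' => hxO ?_⟩
        have := mul_mem (inv_mem hbO) h'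
        rwa [inv_mul_cancel_left] at this
      · exact Or.inl ⟨hprod b hb x hx hbO hxO, hbO⟩
    have hX8 : Nat.card (X : Subgroup S) ≤ 8 := by
      rw [← (O.subgroupOf (X : Subgroup S)).card_mul_index,
        Nat.card_congr (Subgroup.subgroupOfEquivOfLe hOX).toEquiv, h4]
      omega
    have hAe : A = X := eq_of_le_of_card_ge hAX (by omega)
    have hle : (X : Subgroup S) ≤ O := fun x hx => hC (mem_centralizer_iff.2 fun e he =>
      hAab e (hAe ▸ hOX he) x (hAe ▸ hx))
    have := Subgroup.card_le_of_le (hAX.trans hle)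
    omega
  · -- `O` a quaternion group
    have h8 : Nat.card O = 8 := by rw [hS.card, hF]
    haveI hFn : F.Normal := by
      have hFc : F = (center O).map O.subtype := by
        refine le_antisymm (fun f hf => ⟨⟨f, hS.le hf⟩, mem_center_iff.2 fun v =>
          Subtype.ext (hS.central v v.2 f hf), rfl⟩) ?_
        rintro _ ⟨u, hu, rfl⟩
        by_contra hnu
        obtain ⟨v, hv, huv⟩ := hnc u u.2 hnu
        exact huv (congrArg Subtype.val (mem_center_iff.1 hu ⟨v, hv⟩)).symm
      rw [hFc]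
      infer_instance
    set π := QuotientGroup.mk' F with hπ
    have hE4 : Nat.card (O.map π) = 4 := by
      rw [← Subgroup.relIndex_ker, QuotientGroup.ker_mk']
      have h1 := (F.subgroupOf O).card_mul_index
      rw [Nat.card_congr (Subgroup.subgroupOfEquivOfLe hS.le).toEquiv, h8, hF] at h1
      show (F.subgroupOf O).index = 4
      omega
    -- elements trivial on `O / F` lie in `O`
    obtain ⟨i, hi, hiF⟩ := SetLike.not_le_iff_exists.1 (fun hle : O ≤ F => by
      have := Subgroup.card_le_of_le hle; omega)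
    have hall : ∀ u : QuaternionGroup 2, u ^ 4 = 1 := by decide
    have hi4' : ∀ u ∈ O, u ^ 4 = 1 := fun u hu => congrArg Subtype.val
      (show (⟨u, hu⟩ : O) ^ 4 = 1 from e.injective (by rw [map_pow, map_one, hall]))
    have hsqF : ∀ u ∈ O, u * u ∈ F := fun u hu => (hS.sq _ (mul_mem hu hu)
      (by rw [show u * u * (u * u) = u ^ 4 by simp [pow_succ, mul_assoc]]; exact hi4' u hu)).resolve_right
      (by omega)
    obtain ⟨z, hz, hz1⟩ := F.bot_or_exists_ne_one.resolve_left
      (fun h' => by rw [h', card_bot] at hF; omega)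
    have hF2 : ∀ u ∈ F, u = 1 ∨ u = z := fun u hu => by
      by_contra hcon
      push Not at hcon
      classical
      have hsub : ({1, z, u} : Finset S) ⊆ (Set.toFinite (F : Set S)).toFinset := by
        intro w hw
        simp only [Finset.mem_insert, Finset.mem_singleton] at hw
        rw [Set.Finite.mem_toFinset]
        rcases hw with rfl | rfl | rfl
        exacts [one_mem F, hz, hu]
      have hcard := Finset.card_le_card hsub
      rw [← Set.ncard_eq_toFinset_card] at hcard
      have : (F : Set S).ncard = 2 := hF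
      rw [this, Finset.card_insert_of_notMem (by simp [Ne.symm hz1, Ne.symm hcon.1]),
        Finset.card_pair (Ne.symm hcon.2)] at hcard
      omega
    have hz2 : z * z = 1 := by
      have := orderOf_dvd_natCard (⟨z, hz⟩ : F)
      rw [hF, orderOf_dvd_iff_pow_eq_one, pow_two] at this
      exact congrArg Subtype.val this
    have hiO : Nat.card (zpowers i) = 4 := by
      rw [Nat.card_zpowers, orderOf_eq_prime_pow (p := 2) (n := 1)
        (by rw [pow_one, pow_two]; exact fun h' => hiF ((hS.sq i hi h').resolve_right (by omega)))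
        (by norm_num; exact hi4' i hi)]
      norm_num
    have hiI : ((zpowers i).subgroupOf O).index = 2 := by
      have h1 := ((zpowers i).subgroupOf O).card_mul_index
      rw [Nat.card_congr (Subgroup.subgroupOfEquivOfLe (zpowers_le.2 hi)).toEquiv, h8, hiO] at h1
      omega
    have hzi : ∀ u ∈ F, u ∈ zpowers i := fun u hu => by
      have hii : i * i ≠ 1 := fun h' => hiF ((hS.sq i hi h').resolve_right (by omega))
      rcases hF2 u hu with rfl | rfl
      · exact one_mem _
      · rw [← (hF2 _ (hsqF i hi)).resolve_left hii]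
        exact mul_mem (mem_zpowers i) (mem_zpowers i)
    obtain ⟨j, hj, hji⟩ := SetLike.exists_of_lt (lt_of_le_of_ne (zpowers_le.2 hi)
      fun h' => by rw [h', h8] at hiO; omega)
    have hgenO : ∀ u ∈ O, u ∈ zpowers i ⊔ zpowers j := by
      intro u hu
      have hjO : (⟨j, hj⟩ : O) ∉ (zpowers i).subgroupOf O := hji
      by_cases hui : u ∈ zpowers i
      · exact mem_sup_left hui
      · have := (Subgroup.mul_mem_iff_of_index_two hiI (a := (⟨j, hj⟩ : O)) (b := ⟨u, hu⟩)).2
          (by simp [hji, hui, mem_subgroupOf])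
        rw [show u = j⁻¹ * (j * u) by group]
        exact mul_mem (mem_sup_right (inv_mem (mem_zpowers j))) (mem_sup_left this)
    have hcent : ∀ v : S, v * i = i * v → v * j = j * v → v ∈ O := fun v h1 h2 =>
      hC (mem_centralizer_iff.2 fun u hu => by
        have : zpowers i ⊔ zpowers j ≤ centralizer ({v} : Set S) := sup_le
          (zpowers_le.2 (mem_centralizer_singleton_iff.2 h1.symm))
          (zpowers_le.2 (mem_centralizer_singleton_iff.2 h2.symm))
        exact mem_centralizer_singleton_iff.1 (this (hgenO u hu)))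
    have hij : i * j * i⁻¹ = j * z := by
      have hcomm : i * j * i⁻¹ * j⁻¹ ∈ F := by
        have h1 : i * j * i⁻¹ * j⁻¹ = (i * j) * (i * j) * ((j * j)⁻¹ * (i * i)⁻¹) * 1 := by
          have hc1 : (i * i) * j = j * (i * i) := (hS.central j hj _ (hsqF i hi)).symm
          calc i * j * i⁻¹ * j⁻¹ = i * j * i * (i * i)⁻¹ * j⁻¹ := by group
            _ = i * j * i * (j⁻¹ * (i * i)⁻¹) := by
              rw [mul_assoc _ (i * i)⁻¹, (Commute.inv_inv (show Commute (i * i) j from hc1)).eq]
            _ = i * j * i * j * ((j * j)⁻¹ * (i * i)⁻¹) := by group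
            _ = _ := by group
        rw [h1]
        exact mul_mem (mul_mem (hsqF _ (mul_mem hi hj))
          (mul_mem (inv_mem (hsqF j hj)) (inv_mem (hsqF i hi)))) (one_mem F)
      rcases hF2 _ hcomm with h' | h'
      · exfalso
        have hcij : i * j = j * i := commutatorElement_eq_one_iff_mul_comm.1
          (by rw [commutatorElement_def]; exact h')
        obtain ⟨v, hv, hiv⟩ := hnc i hi hiF
        have hle : zpowers i ⊔ zpowers j ≤ centralizer ({i} : Set S) := sup_le
          (zpowers_le.2 (mem_centralizer_singleton_iff.2 rfl))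
          (zpowers_le.2 (mem_centralizer_singleton_iff.2 hcij.symm))
        exact hiv (mem_centralizer_singleton_iff.1 (hle (hgenO v hv))).symm
      · rw [hS.central j hj z hz, ← h']; group
    have hjz : j * z = z * j := hS.central j hj z hz
    have hiz : i * z = z * i := hS.central i hi z hz
    have hji' : j * i * j⁻¹ = i * z := by
      have h1 : i * j = j * z * i := by rw [← hij]; group
      have h2 : j * i = i * j * z := by
        rw [h1, mul_assoc j z i, ← hiz, ← mul_assoc, mul_assoc (j * i), hz2, mul_one]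
      rw [h2, mul_assoc i j z, hjz, ← mul_assoc, mul_inv_cancel_right]
    have hL : ∀ x ∈ (X : Subgroup S), (∀ e ∈ O, x * e * x⁻¹ * e⁻¹ ∈ F) → x ∈ O := by
      intro x _ hxe
      have hi' : x * i * x⁻¹ = i ∨ x * i * x⁻¹ = i * z := by
        rcases hF2 _ (hxe i hi) with h' | h'
        · exact Or.inl (mul_inv_eq_one.1 h')
        · exact Or.inr (by rw [hiz, ← h']; group)
      have hj' : x * j * x⁻¹ = j ∨ x * j * x⁻¹ = j * z := by
        rcases hF2 _ (hxe j hj) with h' | h'
        · exact Or.inl (mul_inv_eq_one.1 h')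
        · exact Or.inr (by rw [hjz, ← h']; group)
      have hiij : i * i * i⁻¹ = i := by group
      have hjjj : j * j * j⁻¹ = j := by group
      have key : ∃ d ∈ O, d * i * d⁻¹ = x * i * x⁻¹ ∧ d * j * d⁻¹ = x * j * x⁻¹ := by
        rcases hi' with h1 | h1 <;> rcases hj' with h2 | h2 <;> rw [h1, h2]
        · exact ⟨1, one_mem _, by simp, by simp⟩
        · exact ⟨i, hi, hiij, hij⟩
        · exact ⟨j, hj, hji', hjjj⟩
        · refine ⟨i * j, mul_mem hi hj, ?_, ?_⟩
          · calc i * j * i * (i * j)⁻¹ = i * (j * i * j⁻¹) * i⁻¹ := by group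
              _ = i * (i * z) * i⁻¹ := by rw [hji']
              _ = i * z := by rw [hiz]; group; simp [mul_assoc, hiz]
          · calc i * j * j * (i * j)⁻¹ = i * j * i⁻¹ := by group
              _ = j * z := hij
      obtain ⟨d, hd, hdi, hdj⟩ := key
      have hcm : ∀ k, d * k * d⁻¹ = x * k * x⁻¹ → d⁻¹ * x * k = k * (d⁻¹ * x) := fun k hk => by
        calc d⁻¹ * x * k = d⁻¹ * (x * k * x⁻¹) * x := by group
          _ = d⁻¹ * (d * k * d⁻¹) * x := by rw [hk]
          _ = k * (d⁻¹ * x) := by group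
      have := mul_mem hd (hcent _ (hcm i hdi) (hcm j hdj))
      rwa [mul_inv_cancel_left] at this
    -- index at most two
    have hπs := QuotientGroup.mk'_surjective F
    haveI : (O.map π).Normal := Subgroup.Normal.map inferInstance π hπs
    let X' : Sylow 2 (S ⧸ F) := X.mapSurjective hπs
    have hX' : (X' : Subgroup (S ⧸ F)) = (X : Subgroup S).map π := Sylow.coe_mapSurjective hπs X
    have hle' : O.map π ≤ X' := hX' ▸ map_mono hOX
    have hne : (O.map π).subgroupOf (X' : Subgroup (S ⧸ F)) ≠ ⊥ := fun he => by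
      have := congrArg (fun K : Subgroup (X' : Subgroup (S ⧸ F)) => Nat.card K) he
      simp only [Nat.card_congr (Subgroup.subgroupOfEquivOfLe hle').toEquiv, hE4, card_bot] at this
      omega
    haveI : ((O.map π).subgroupOf (X' : Subgroup (S ⧸ F))).Normal :=
      ⟨fun u hu k => (inferInstance : (O.map π).Normal).conj_mem _ hu _⟩
    obtain ⟨w, ⟨hwO, hwc⟩, hw1⟩ :=
      (_ : Subgroup (X' : Subgroup (S ⧸ F))).bot_or_exists_ne_one.resolve_left
        (CfsgLib.PGroup.inf_center_ne_bot X'.2 _ hne)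
    have hwx : ∀ x ∈ (X : Subgroup S), π x * (w : S ⧸ F) * (π x)⁻¹ = w := fun x hx => by
      have hx' : π x ∈ (X' : Subgroup (S ⧸ F)) := hX' ▸ mem_map_of_mem π hx
      rw [show π x * (w : S ⧸ F) = w * π x from congrArg Subtype.val (mem_center_iff.1 hwc ⟨π x, hx'⟩),
        mul_inv_cancel_right]
    have hw2 : (w : S ⧸ F) * w = 1 := by
      obtain ⟨o, ho, how⟩ := hwO
      have how' : π o = (w : S ⧸ F) := how
      rw [← how', ← map_mul]
      exact (QuotientGroup.eq_one_iff _).2 (hsqF o ho)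
    have hmem : ∀ y : S, π y = 1 ↔ y ∈ F := fun y => QuotientGroup.eq_one_iff y
    have hnm : ∀ x ∈ (X : Subgroup S), ∀ e ∈ O.map π, π x * e * (π x)⁻¹ ∈ O.map π := fun x _ e he =>
      (inferInstance : (O.map π).Normal).conj_mem e he _
    have hmv : ∀ x ∈ (X : Subgroup S), x ∉ O → ¬ ∀ e ∈ O.map π, π x * e * (π x)⁻¹ = e :=
      fun x hx hxO hh => hxO (hL x hx fun e he => by
        rw [← hmem]
        have := hh _ (mem_map_of_mem π he)
        simp [this])
    have hprod : ∀ x ∈ (X : Subgroup S), ∀ y ∈ (X : Subgroup S), x ∉ O → y ∉ O → x * y ∈ O := by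
      intro x hx y hy hxO hyO
      refine hL _ (mul_mem hx hy) fun e he => ?_
      rw [← hmem]
      have := transv_mul hE4 hwO (fun h' => hw1 (Subtype.ext h')) hw2 (hnm x hx) (hwx x hx)
        (hnm y hy) (hwx y hy) (hmv x hx hxO) (hmv y hy hyO) _ (mem_map_of_mem π he)
      simp only [map_mul, map_inv, mul_inv_rev] at this ⊢
      rw [this, mul_inv_cancel]
    -- an abelian subgroup of order eight
    obtain ⟨a, haA, haO⟩ := SetLike.not_le_iff_exists.1 (fun hle : A ≤ O => hno ⟨A, hle, hAc, hAn, hA8⟩)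
    have hidx : ((A ⊓ O).subgroupOf A).index ≤ 2 := by
      refine le_of_eq (Subgroup.index_eq_two_iff.2 ⟨⟨a, haA⟩, fun ⟨b, hb⟩ => ?_⟩)
      simp only [mem_subgroupOf, MulMemClass.mk_mul_mk, mem_inf, hb, mul_mem hb haA, true_and]
      by_cases hbO : b ∈ O
      · refine Or.inr ⟨hbO, fun h' => haO ?_⟩
        have := mul_mem (inv_mem hbO) h'
        rwa [inv_mul_cancel_left] at this
      · exact Or.inl ⟨hprod b (hAX hb) a (hAX haA) hbO haO, hbO⟩
    have hAO : 4 ≤ Nat.card ↥(A ⊓ O) := by
      have h1 := ((A ⊓ O).subgroupOf A).card_mul_index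
      rw [Nat.card_congr (Subgroup.subgroupOfEquivOfLe inf_le_left).toEquiv, hA8] at h1
      by_contra h'
      have : Nat.card ↥(A ⊓ O) * ((A ⊓ O).subgroupOf A).index ≤ 3 * 2 :=
        Nat.mul_le_mul (by omega) hidx
      omega
    obtain ⟨k, hk, hkF⟩ := SetLike.not_le_iff_exists.1 (fun hle : A ⊓ O ≤ F => by
      have := Subgroup.card_le_of_le hle; omega)
    obtain ⟨m, hm, hmk⟩ := hnc k hk.2 hkF
    have hk4 : Nat.card (zpowers k) = 4 := by
      rw [Nat.card_zpowers, orderOf_eq_prime_pow (p := 2) (n := 1)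
        (by rw [pow_one, pow_two]; exact fun h' => hkF ((hS.sq k hk.2 h').resolve_right (by omega)))
        (by norm_num; exact hi4' k hk.2)]
      norm_num
    have hkI : ((zpowers k).subgroupOf O).index = 2 := by
      have h1 := ((zpowers k).subgroupOf O).card_mul_index
      rw [Nat.card_congr (Subgroup.subgroupOfEquivOfLe (zpowers_le.2 hk.2)).toEquiv, h8, hk4] at h1
      omega
    have hak : a * k = k * a := hAab a haA k hk.1
    have haa : a * a ∈ A ⊓ O := ⟨mul_mem haA haA, hprod a (hAX haA) a (hAX haA) haO haO⟩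
    have haaF : a * a ∈ F := by
      by_contra hn'
      refine hAn ?_
      have h4 : orderOf (a * a) = 2 ^ (1 + 1) := orderOf_eq_prime_pow
        (by rw [pow_one, pow_two]; exact fun h' => hn' ((hS.sq _ haa.2 h').resolve_right (by omega)))
        (by norm_num; exact hi4' _ haa.2)
      have h8' : orderOf a = 2 ^ (2 + 1) := by
        refine orderOf_eq_prime_pow ?_ ?_
        · rw [show a ^ 2 ^ 2 = (a * a) ^ 2 by simp [pow_succ, mul_assoc]]
          intro h'
          have := orderOf_dvd_of_pow_eq_one h'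
          rw [h4] at this
          norm_num at this
        · rw [show a ^ 2 ^ (2 + 1) = (a * a) ^ 4 by simp [pow_succ, mul_assoc]]
          exact hi4' _ haa.2
      exact isCyclic_of_orderOf_eq_card (⟨a, haA⟩ : A)
        (by rw [Subgroup.orderOf_mk, h8', hA8]; norm_num)
    have hmk' : m ∉ zpowers k := fun h' => by
      obtain ⟨r, rfl⟩ := mem_zpowers_iff.1 h'
      exact hmk ((Commute.refl k).zpow_right r).eq
    have hm'O : a * m * a⁻¹ ∈ O := exists_normal_conj m hm
    have hm'k : a * m * a⁻¹ ∉ zpowers k := fun h' => hmk' (by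
      obtain ⟨r, hr⟩ := mem_zpowers_iff.1 h'
      have : m = k ^ r := by
        calc m = a⁻¹ * (a * m * a⁻¹) * a := by group
          _ = a⁻¹ * k ^ r * a := by rw [hr]
          _ = k ^ r := by
            rw [mul_assoc, ← ((show Commute a k from hak).zpow_right r).eq, inv_mul_cancel_left]
      exact this ▸ zpow_mem (mem_zpowers k) r)
    have hu : m⁻¹ * (a * m * a⁻¹) ∈ zpowers k := by
      have := (Subgroup.mul_mem_iff_of_index_two hkI (a := (⟨m, hm⟩ : O)⁻¹)
        (b := ⟨_, hm'O⟩)).2 (by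
          simp [mem_subgroupOf, inv_mem_iff, hmk', hm'k])
      exact this
    set u := m⁻¹ * (a * m * a⁻¹) with hudef
    have hau : a * u * a⁻¹ = u := by
      obtain ⟨r, hr⟩ := mem_zpowers_iff.1 hu
      rw [← hr, ((show Commute a k from hak).zpow_right r).eq, mul_inv_cancel_right]
    have hu2 : u * u = 1 := by
      have h1 : a * a * m * (a * a)⁻¹ = m := by
        rw [← hS.central m hm _ haaF, mul_inv_cancel_right]
      have h2 : a * a * m * (a * a)⁻¹ = m * u * u := by
        calc a * a * m * (a * a)⁻¹ = a * (m * u) * a⁻¹ := by rw [hudef]; group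
          _ = (a * m * a⁻¹) * (a * u * a⁻¹) := by group
          _ = m * u * u := by rw [hau, hudef]; group
      rw [h1, mul_assoc] at h2
      exact mul_left_cancel (h2.symm.trans (mul_one m).symm)
    have hgenk : ∀ v ∈ O, v ∈ zpowers k ⊔ zpowers m := by
      intro v hv
      by_cases hvk : v ∈ zpowers k
      · exact mem_sup_left hvk
      · have := (Subgroup.mul_mem_iff_of_index_two hkI (a := (⟨m, hm⟩ : O)) (b := ⟨v, hv⟩)).2
          (by simp [hmk', hvk, mem_subgroupOf])
        rw [show v = m⁻¹ * (m * v) by group]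
        exact mul_mem (mem_sup_right (inv_mem (mem_zpowers m))) (mem_sup_left this)
    have hcentk : ∀ v : S, v * k = k * v → v * m = m * v → v ∈ O := fun v h1 h2 =>
      hC (mem_centralizer_iff.2 fun w hw' => by
        have : zpowers k ⊔ zpowers m ≤ centralizer ({v} : Set S) := sup_le
          (zpowers_le.2 (mem_centralizer_singleton_iff.2 h1.symm))
          (zpowers_le.2 (mem_centralizer_singleton_iff.2 h2.symm))
        exact mem_centralizer_singleton_iff.1 (this (hgenk w hw')))
    rcases hF2 u ((hS.sq u (zpowers_le.2 hk.2 hu) hu2).resolve_right (by omega)) with h' | h'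
    · exact haO (hcentk a hak (mul_inv_eq_iff_eq_mul.1 (inv_mul_eq_one.1 (hudef ▸ h')).symm))
    · -- `k * a` centralizes `O`
      have hkm : k * m * k⁻¹ = m * z := by
        have hne : k * m * k⁻¹ * m⁻¹ ≠ 1 := fun h'' => hmk
          (commutatorElement_eq_one_iff_mul_comm.1 (by rw [commutatorElement_def]; exact h''))
        have hcomm : k * m * k⁻¹ * m⁻¹ ∈ F := by
          have hkmO : k * m * k⁻¹ ∈ O := exists_normal_conj m hm
          have hc1 : (k * k) * m = m * (k * k) := (hS.central m hm _ (hsqF k hk.2)).symm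
          have h1 : k * m * k⁻¹ * m⁻¹ = (k * m) * (k * m) * ((m * m)⁻¹ * (k * k)⁻¹) := by
            calc k * m * k⁻¹ * m⁻¹ = k * m * k * (k * k)⁻¹ * m⁻¹ := by group
              _ = k * m * k * (m⁻¹ * (k * k)⁻¹) := by
                rw [mul_assoc _ (k * k)⁻¹, (Commute.inv_inv (show Commute (k * k) m from hc1)).eq]
              _ = k * m * k * m * ((m * m)⁻¹ * (k * k)⁻¹) := by group
              _ = _ := by group
          rw [h1]
          exact mul_mem (hsqF _ (mul_mem hk.2 hm)) (mul_mem (inv_mem (hsqF m hm)) (inv_mem (hsqF k hk.2)))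
        rw [hS.central m hm z hz, ← (hF2 _ hcomm).resolve_left hne]
        group
      have ham : a * m * a⁻¹ = m * z := by
        have : m⁻¹ * (a * m * a⁻¹) = z := hudef ▸ h'
        rw [← this]; group
      have hkz : k * z * k⁻¹ = z := by rw [hS.central k hk.2 z hz, mul_inv_cancel_right]
      have hka : k * a ∈ O := hcentk _
        (by rw [mul_assoc, hak]) (by
          have : k * a * m * (k * a)⁻¹ = m := by
            calc k * a * m * (k * a)⁻¹ = k * (a * m * a⁻¹) * k⁻¹ := by group
              _ = (k * m * k⁻¹) * (k * z * k⁻¹) := by rw [ham]; group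
              _ = m := by rw [hkm, hkz, mul_assoc, hz2, mul_one]
          exact mul_inv_eq_iff_eq_mul.1 this)
      have := O.mul_mem (O.inv_mem hk.2) hka
      rw [inv_mul_cancel_left] at this
      exact haO this
where
  eq_one_of_pow {h : S} {k : ℕ} (hk : h ^ 2 ^ k = 1) (hho : Odd (orderOf h)) : h = 1 :=
    orderOf_eq_one_iff.1 (Nat.dvd_one.1 ((hho.coprime_two_right.pow_right k).gcd_eq_one ▸
      Nat.dvd_gcd dvd_rfl (orderOf_dvd_of_pow_eq_one hk)))

theorem main [Group.IsSolvable S] (hO : pPrimeCore 2 S = ⊥)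
    (h8 : ∃ A : Subgroup S, IsMulCommutative ↥A ∧ ¬ IsCyclic ↥A ∧ Nat.card ↥A = 8)
    (hmin : ∀ R : Subgroup S, R ≠ ⊤ → (∃ k : ℕ, R.index = 2 ^ k) → ¬ Eight R) (X : Sylow 2 S) :
    (X : Subgroup S).Normal ∧ Shape (X : Subgroup S) := by
  haveI : Fact (Nat.Prime 2) := ⟨Nat.prime_two⟩
  obtain ⟨A, hAc, hAn, hA8⟩ := h8
  have hX := eight_le_sylow X hAc hAn hA8
  have hOE := pCore_has_eight hO X hX
  obtain ⟨n, hn⟩ := IsPGroup.iff_card.1 X.2
  have hcard := (X : Subgroup S).card_mul_index
  rw [hn] at hcard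
  have hodd : Odd (X : Subgroup S).index := Nat.not_even_iff_odd.1 fun h =>
    X.not_dvd_index (even_iff_two_dvd.1 h)
  obtain ⟨H, hH⟩ := CfsgLib.Solvable.exists_hall (G := S) (m := (X : Subgroup S).index) (n := 2 ^ n)
    (by rw [← hcard, mul_comm]) (hodd.coprime_two_right.pow_right n)
  have hHo : Odd (Nat.card H) := hH ▸ hodd
  have hO2 : IsPGroup 2 (pCore 2 S) := CfsgLib.Cores.isPGroup_pCore 2
  have hOX : pCore 2 S ≤ X := CfsgLib.Cores.pCore_le_sylow X
  have htop : pCore 2 S ⊔ H = ⊤ := by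
    by_contra hne
    refine hmin _ hne ?_ (hOE.mono le_sup_left)
    have h1 := (pCore 2 S ⊔ H).card_mul_index
    obtain ⟨m, hm⟩ := card_dvd_of_le (le_sup_right : H ≤ pCore 2 S ⊔ H)
    rw [hm, ← hcard, hH, mul_comm (2 ^ n), mul_assoc] at h1
    have h3 : (pCore 2 S ⊔ H).index ∣ 2 ^ n := ⟨m, by
      rw [← Nat.eq_of_mul_eq_mul_left (by rw [← hH]; exact Nat.card_pos) h1, mul_comm]⟩
    obtain ⟨k, -, hk⟩ := (Nat.dvd_prime_pow Nat.prime_two).1 h3
    exact ⟨k, hk⟩
  have hXO : (X : Subgroup S) = pCore 2 S := by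
    refine (eq_of_le_of_card_ge hOX ?_).symm
    have hdisj : pCore 2 S ⊓ H = ⊥ := eq_bot_of_card_eq _ (Nat.eq_one_of_dvd_coprimes
      (coprime_of_two hO2 hHo) (card_dvd_of_le inf_le_right) (card_dvd_of_le inf_le_left))
    have hcomp : IsComplement' (pCore 2 S) H := isComplement'_of_disjoint_and_mul_eq_univ
      (disjoint_iff.2 hdisj) (by rw [← Subgroup.normal_mul, htop]; rfl)
    have h1 := hcomp.card_mul_card
    rw [← hcard, hH] at h1
    rw [hn]
    exact (Nat.eq_of_mul_eq_mul_right (Nat.pos_of_ne_zero Subgroup.index_ne_zero_of_finite) h1).ge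
  haveI hXn : (X : Subgroup S).Normal := by rw [hXO]; infer_instance
  refine ⟨hXn, normal_case X.2 hHo (by rw [hXO, htop]) ?_ hX hmin⟩
  rw [hXO]
  exact CfsgLib.Solvable.centralizer_pCore_le 2 hO

end CfsgLib.PGroup.MinimalEight
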