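import Cfsg.Agent.Lib.PGroup.MinimalEight.Core
import Cfsg.Agent.Lib.Solvable.Fitting
import Cfsg.Agent.Lib.Solvable.Hall
import Cfsg.Agent.Lib.Cores.Basic
import Cfsg.Prelude.Def_Solvable

/-!
Solvable groups with trivial odd core, minimal among the subgroups of `2`-power index with respect
to containing a noncyclic abelian subgroup of order eight.
-/

set_option autoImplicit false

namespace CfsgLib.PGroup.MinimalEight

open Subgroup Cfsg
open scoped commutatorElement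

variable {G : Type*} [Group G] [Finite G]

theorem quaternion_sq : ∀ u : QuaternionGroup 2, u * u = 1 → u = 1 ∨ u = QuaternionGroup.a 2 := by
  decide

theorem isSolvable_of_two {X : Subgroup G} (hX : IsPGroup 2 X) : Group.IsSolvable X := by
  haveI : Fact (Nat.Prime 2) := ⟨Nat.prime_two⟩
  haveI := hX.isNilpotent
  infer_instance

theorem coprime_of_two {X H : Subgroup G} (hX : IsPGroup 2 X) (hH : Odd (Nat.card H)) :
    (Nat.card H).Coprime (Nat.card X) := by
  haveI : Fact (Nat.Prime 2) := ⟨Nat.prime_two⟩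
  obtain ⟨n, hn⟩ := IsPGroup.iff_card.1 hX
  rw [hn]
  exact hH.coprime_two_right.pow_right n

theorem le_normalizer_of {X H : Subgroup G} (hn : ∀ h ∈ H, ∀ x ∈ X, h * x * h⁻¹ ∈ X) :
    H ≤ normalizer (X : Set G) := fun h hh => mem_normalizer_iff.2 fun x =>
  ⟨hn h hh x, fun hx => by simpa [mul_assoc] using hn h⁻¹ (inv_mem hh) _ hx⟩

theorem fixed_mem_frattini {X H : Subgroup G} (hX : IsPGroup 2 X) (hH : Odd (Nat.card H))
    (hn : ∀ h ∈ H, ∀ x ∈ X, h * x * h⁻¹ ∈ X) (hgen : X ≤ ⁅X, H⁆) {u : G} (hu : u ∈ X)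
    (hfix : ∀ h ∈ H, h * u * h⁻¹ = u) : (⟨u, hu⟩ : X) ∈ frattini X := by
  haveI : Fact (Nat.Prime 2) := ⟨Nat.prime_two⟩
  rw [frattini, Order.radical]
  simp only [Subgroup.mem_iInf]
  intro M hM
  haveI := CfsgLib.PGroup.normal_of_isCoatom hX hM
  let e : X ⧸ M ≃* Multiplicative (ZMod 2) := mulEquivOfPrimeCardEq (p := 2)
    (by rw [← Subgroup.index_eq_card, CfsgLib.PGroup.index_of_isCoatom hX hM]) (by simp)
  have := hom_fixed_eq_one hH hgen hn (e.toMonoidHom.comp (QuotientGroup.mk' M)) hu hfix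
  rw [MonoidHom.comp_apply, MulEquiv.coe_toMonoidHom, EmbeddingLike.map_eq_one_iff,
    QuotientGroup.mk'_apply, QuotientGroup.eq_one_iff] at this
  exact this

/-- A four-group or quaternion group with the data used below. -/
structure Small (D H : Subgroup G) (F : Subgroup G) : Prop where
  two : IsPGroup 2 D
  odd : Odd (Nat.card H)
  norm : ∀ h ∈ H, ∀ x ∈ D, h * x * h⁻¹ ∈ D
  gen : D ≤ ⁅D, H⁆
  le : F ≤ D
  card : Nat.card D = 4 * Nat.card F
  fixed : ∀ h ∈ H, ∀ f ∈ F, h * f * h⁻¹ = f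
  central : ∀ d ∈ D, ∀ f ∈ F, d * f = f * d
  frat : ∀ (u : G) (hu : u ∈ D), (⟨u, hu⟩ : D) ∈ frattini D → u ∈ F
  sq : ∀ u ∈ D, u * u = 1 → u ∈ F ∨ Nat.card F = 1
  cases : (F = ⊥ ∧ (∀ u ∈ D, ∀ v ∈ D, u * v = v * u) ∧ ∀ u ∈ D, u * u = 1) ∨
    (Nat.card F = 2 ∧ (∀ u ∈ D, u ∉ F → ∃ v ∈ D, u * v ≠ v * u) ∧ Nonempty (D ≃* QuaternionGroup 2))

theorem small_of {D H : Subgroup G} (hD : IsPGroup 2 D) (hH : Odd (Nat.card H))
    (hn : ∀ h ∈ H, ∀ x ∈ D, h * x * h⁻¹ ∈ D) (hgen : D ≤ ⁅D, H⁆) (hne : D ≠ ⊥) (h8 : ¬ Eight D) :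
    ∃ F, Small D H F := by
  haveI : Fact (Nat.Prime 2) := ⟨Nat.prime_two⟩
  rcases small_cases hD hH hn hgen hne h8 with ⟨h4, hc, he⟩ | ⟨h8c, hFZ, hCZ, hz, ⟨e⟩⟩
  · refine ⟨⊥, hD, hH, hn, hgen, bot_le, by rw [card_bot, h4], fun h _ f hf => ?_,
      fun d _ f hf => ?_, fun u hu hf => ?_, fun u _ _ => Or.inr card_bot, Or.inl ⟨rfl, hc, he⟩⟩
    · rw [mem_bot] at hf; subst hf; group
    · rw [mem_bot] at hf; subst hf; group
    · have hle : frattini D ≤ ⊥ := CfsgLib.Solvable.frattini_le_of_elementary (p := 2) _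
        (by
          rw [commutator_def, commutator_le]
          intro a _ b _
          rw [mem_bot, commutatorElement_eq_one_iff_mul_comm]
          exact Subtype.ext (hc a a.2 b b.2))
        fun a => mem_bot.2 (by rw [pow_two]; exact Subtype.ext (he a a.2))
      exact mem_bot.2 (congrArg Subtype.val (mem_bot.1 (hle hf)))
  · have hy : Hyp D H := ⟨hD, hH, hn, hgen, fun Y hY _ _ h => h8 (h.mono hY)⟩
    have hcard : Nat.card ((center D).map D.subtype) = 2 := by
      rw [card_map_of_injective D.subtype_injective, hz]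
    refine ⟨(center D).map D.subtype, hD, hH, hn, hgen, map_subtype_le _, by rw [hcard, h8c],
      hy.fixed_of_cyclic _ (isCyclic_of_card_lt hD _ (by rw [hz]; norm_num)), ?_, fun u hu hf => ?_,
      fun u hu hu2 => Or.inl ?_, Or.inr ⟨hcard, fun u hu hnu => ?_, ⟨e⟩⟩⟩
    · rintro d hd _ ⟨f, hf, rfl⟩
      exact congrArg Subtype.val (mem_center_iff.1 hf ⟨d, hd⟩)
    · exact ⟨⟨u, hu⟩, hFZ ▸ hf, rfl⟩
    · obtain ⟨w, hw, hw1⟩ := (center D).bot_or_exists_ne_one.resolve_left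
        (fun h => by rw [h, card_bot] at hz; omega)
      have hw2 : e w * e w = 1 := by
        rw [← map_mul, ← map_one e]
        congr 1
        have := orderOf_dvd_natCard (⟨w, hw⟩ : center D)
        rw [hz, orderOf_dvd_iff_pow_eq_one, pow_two] at this
        exact congrArg Subtype.val this
      have hu2' : e ⟨u, hu⟩ * e ⟨u, hu⟩ = 1 := by
        rw [← map_mul, ← map_one e]
        exact congrArg e (Subtype.ext hu2)
      have hwa : e w = QuaternionGroup.a 2 :=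
        (quaternion_sq _ hw2).resolve_left fun h => hw1 (EmbeddingLike.map_eq_one_iff.1 h)
      rcases quaternion_sq _ hu2' with h | h
      · rw [show u = 1 from congrArg Subtype.val (EmbeddingLike.map_eq_one_iff.1 h)]
        exact one_mem _
      · exact ⟨⟨u, hu⟩, (e.injective (hwa.trans h.symm)) ▸ hw, rfl⟩
    · by_contra hcon
      push Not at hcon
      exact hnu ⟨⟨u, hu⟩, mem_center_iff.2 fun v => Subtype.ext (hcon v v.2).symm, rfl⟩

theorem mem_normalizer_of_conj_mem {L : Subgroup G} {c : G} (h : ∀ x ∈ L, c * x * c⁻¹ ∈ L) :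
    c ∈ normalizer (L : Set G) := by
  have he : L.map (MulAut.conj c).toMonoidHom = L := by
    refine eq_of_le_of_card_ge ?_ (by rw [card_map_of_injective (MulAut.conj c).injective])
    rintro _ ⟨x, hx, rfl⟩
    exact h x hx
  refine mem_normalizer_iff.2 fun x => ⟨h x, fun hx => ?_⟩
  rw [← he] at hx
  obtain ⟨y, hy, hyx⟩ := hx
  have : y = x := (MulAut.conj c).injective hyx
  exact this ▸ hy

namespace Small

variable {D H F : Subgroup G} (hS : Small D H F)
include hS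

theorem fpf_all {u : G} (hu : u ∈ D) (hfix : ∀ h ∈ H, h * u * h⁻¹ = u) : u ∈ F :=
  hS.frat u hu (fixed_mem_frattini hS.two hS.odd hS.norm hS.gen hu hfix)

theorem exists_moving : ∃ h ∈ H, ∃ d ∈ D, h * d * h⁻¹ ≠ d := by
  by_contra hcon
  push Not at hcon
  have hDF : D ≤ F := fun d hd => hS.fpf_all hd fun h hh => hcon h hh d hd
  have := Subgroup.card_le_of_le hDF
  have := hS.card
  have : 0 < Nat.card F := Nat.card_pos
  omega

theorem gen_single {h : G} (hh : h ∈ H) (hmv : ∃ d ∈ D, h * d * h⁻¹ ≠ d) : D ≤ ⁅D, zpowers h⁆ := by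
  haveI : Fact (Nat.Prime 2) := ⟨Nat.prime_two⟩
  set Z := zpowers h with hZ
  have hZH : Z ≤ H := zpowers_le.2 hh
  have hZo : Odd (Nat.card Z) := Odd.of_dvd_nat hS.odd (card_dvd_of_le hZH)
  have hZn : Z ≤ normalizer (D : Set G) := hZH.trans (le_normalizer_of hS.norm)
  have hcop := coprime_of_two hS.two hZo
  have hs := isSolvable_of_two hS.two
  have hle := CfsgLib.Solvable.commutator_le_of_le_normalizer hZn
  set D₁ := ⁅D, Z⁆ with hD₁
  have hne : D₁ ≠ ⊥ := fun he => by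
    obtain ⟨d, hd, hdm⟩ := hmv
    apply hdm
    have : ⁅d⁻¹, h⁆ ∈ D₁ := commutator_mem_commutator (inv_mem hd) (mem_zpowers h)
    rw [he, mem_bot, commutatorElement_eq_one_iff_mul_comm] at this
    have hc : Commute d h := Commute.inv_left_iff.1 this
    rw [← hc.eq, mul_inv_cancel_right]
  have hidem : D₁ ≤ ⁅D₁, Z⁆ :=
    (CfsgLib.Solvable.commutator_commutator_self hZn hcop (Or.inr hs)).ge
  have hn1 : ∀ g ∈ Z, ∀ x ∈ D₁, g * x * g⁻¹ ∈ D₁ := fun g hg x hx =>
    (mem_normalizer_iff.1 (CfsgLib.Solvable.le_normalizer_commutator_right hZn hg) x).1 hx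
  have h81 : ¬ Eight D₁ := by
    intro h8
    obtain ⟨A, hA, hAc, hAn, hA8⟩ := h8.mono hle
    rcases hS.cases with ⟨hF, -, -⟩ | ⟨hF, hnc, -⟩
    · have := Subgroup.card_le_of_le hA
      have := hS.card
      rw [hF, card_bot] at this
      omega
    · have hAD : A = D := eq_of_le_of_card_ge hA (by rw [hS.card, hF, hA8])
      obtain ⟨u, hu, huF⟩ := SetLike.not_le_iff_exists.1 (fun hle' : D ≤ F => by
        have := Subgroup.card_le_of_le hle'; rw [hS.card, hF] at this; omega)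
      obtain ⟨v, hv, huv⟩ := hnc u hu huF
      exact huv (congrArg Subtype.val (hAc.is_comm.comm (⟨u, hAD ▸ hu⟩ : A) ⟨v, hAD ▸ hv⟩))
  rcases small_cases (hS.two.to_le hle) hZo hn1 hidem hne h81 with ⟨h4, hc1, he1⟩ | ⟨h8c, -⟩
  · rcases hS.cases with ⟨hF, -, -⟩ | ⟨hF, -, -⟩
    · have : D₁ = D := eq_of_le_of_card_ge hle (by rw [hS.card, hF, card_bot, h4])
      rw [this]
    · exfalso
      have hle' : D₁ ≤ F := fun u hu => (hS.sq u (hle hu) (he1 u hu)).resolve_right (by omega)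
      have := Subgroup.card_le_of_le hle'
      omega
  · have : D₁ = D := eq_of_le_of_card_ge hle (by
      rw [hS.card, h8c]
      rcases hS.cases with ⟨hF, -, -⟩ | ⟨hF, -, -⟩
      · rw [hF, card_bot]; norm_num
      · omega)
    rw [this]

/-- A `2`-element normalising `D` and centralizing `H` centralizes `D`. -/
theorem centralizes {W : Subgroup G} (hW : IsPGroup 2 W) (hDW : D ≤ W) {c : G} (hcW : c ∈ W)
    (hcD : ∀ d ∈ D, c * d * c⁻¹ ∈ D) (hcF : ∀ f ∈ F, c * f * c⁻¹ ∈ F)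
    (hcH : ∀ h ∈ H, c * h = h * c) : ∀ d ∈ D, c * d = d * c := by
  haveI : Fact (Nat.Prime 2) := ⟨Nat.prime_two⟩
  obtain ⟨h, hh, hmv⟩ := hS.exists_moving
  have hgen := hS.gen_single hh hmv
  set Z := zpowers h with hZ
  have hZH : Z ≤ H := zpowers_le.2 hh
  have hZo : Odd (Nat.card Z) := Odd.of_dvd_nat hS.odd (card_dvd_of_le hZH)
  have hFnD : ∀ d ∈ D, ∀ f ∈ F, d * f * d⁻¹ ∈ F := fun d hd f hf => by
    rwa [hS.central d hd f hf, mul_inv_cancel_right]
  let K : Subgroup G :=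
    { carrier := {e | e ∈ D ∧ c * e * c⁻¹ * e⁻¹ ∈ F}
      one_mem' := ⟨one_mem _, by simp⟩
      mul_mem' := fun {a b} ha hb => ⟨mul_mem ha.1 hb.1, by
        rw [show c * (a * b) * c⁻¹ * (a * b)⁻¹ =
          (c * a * c⁻¹ * a⁻¹) * (a * (c * b * c⁻¹ * b⁻¹) * a⁻¹) by group]
        exact mul_mem ha.2 (hFnD a ha.1 _ hb.2)⟩
      inv_mem' := fun {a} ha => ⟨inv_mem ha.1, by
        rw [show c * a⁻¹ * c⁻¹ * a⁻¹⁻¹ = a⁻¹ * (c * a * c⁻¹ * a⁻¹)⁻¹ * a⁻¹⁻¹ by group]
        exact hFnD _ (inv_mem ha.1) _ (inv_mem ha.2)⟩ }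
  have hKmem : ∀ u, u ∈ K ↔ u ∈ D ∧ c * u * c⁻¹ * u⁻¹ ∈ F := fun u => Iff.rfl
  have hFK : F ≤ K := fun f hf => ⟨hS.le hf, mul_mem (hcF f hf) (inv_mem hf)⟩
  -- a fixed point of `c` outside `F`
  obtain ⟨e, heK, heF⟩ : ∃ e, e ∈ K ∧ e ∉ F := by
    set W' := D ⊔ zpowers c with hW'
    have hW'2 : IsPGroup 2 W' := hW.to_le (sup_le hDW (zpowers_le.2 hcW))
    have hnorm : ∀ {L : Subgroup G}, L ≤ D → (∀ d ∈ D, ∀ x ∈ L, d * x * d⁻¹ ∈ L) →
        (∀ x ∈ L, c * x * c⁻¹ ∈ L) → (L.subgroupOf W').Normal := by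
      intro L _ h1 h2
      have hle : W' ≤ normalizer (L : Set G) :=
        sup_le (le_normalizer_of h1) (zpowers_le.2 (mem_normalizer_of_conj_mem h2))
      exact ⟨fun u hu k => (mem_normalizer_iff.1 (hle k.2) u).1 hu⟩
    haveI hFn : (F.subgroupOf W').Normal := hnorm hS.le hFnD hcF
    haveI hDn : (D.subgroupOf W').Normal :=
      hnorm le_rfl (fun d hd x hx => mul_mem (mul_mem hd hx) (inv_mem hd)) hcD
    set π := QuotientGroup.mk' (F.subgroupOf W') with hπ
    haveI : ((D.subgroupOf W').map π).Normal :=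
      hDn.map π (QuotientGroup.mk'_surjective _)
    have hne : (D.subgroupOf W').map π ≠ ⊥ := by
      rw [Ne, Subgroup.map_eq_bot_iff, QuotientGroup.ker_mk']
      intro hle
      have h1 : D ≤ F := fun d hd => hle (x := ⟨d, mem_sup_left hd⟩) hd
      have := Subgroup.card_le_of_le h1
      have := hS.card
      have : 0 < Nat.card F := Nat.card_pos
      omega
    obtain ⟨v, ⟨⟨⟨u, hu⟩, huD, rfl⟩, hvc⟩, hv1⟩ :=
      ((_ : Subgroup _).bot_or_exists_ne_one.resolve_left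
        (CfsgLib.PGroup.inf_center_ne_bot (hW'2.to_quotient _) _ hne))
    refine ⟨u, ⟨huD, ?_⟩, fun huF => hv1 ((QuotientGroup.eq_one_iff _).2 huF)⟩
    have hcomm := mem_center_iff.1 hvc (π ⟨c, mem_sup_right (mem_zpowers c)⟩)
    have : π ⁅(⟨c, mem_sup_right (mem_zpowers c)⟩ : W'), ⟨u, hu⟩⁆ = 1 := by
      rw [map_commutatorElement, commutatorElement_eq_one_iff_mul_comm]; exact hcomm
    have hm : ⁅(⟨c, mem_sup_right (mem_zpowers c)⟩ : W'), ⟨u, hu⟩⁆ ∈ F.subgroupOf W' :=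
      (QuotientGroup.eq_one_iff _).1 this
    exact hm
  have hhF : ∀ f ∈ F, h * f * h⁻¹ = f := hS.fixed h hh
  have hfixe : ∀ u ∈ D, u⁻¹ * (h * u * h⁻¹) ∈ F → u ∈ F := fun u hu hf => by
    have := fix_of_step hS.two hS.odd hh hu (hS.le hf) (hhF _ hf)
    refine hS.frat u hu (fixed_mem_frattini hS.two hZo
      (fun g hg => hS.norm g (hZH hg)) hgen hu fun g hg => ?_)
    obtain ⟨k, rfl⟩ := mem_zpowers_iff.1 hg
    have hc : Commute u h := (mul_inv_eq_iff_eq_mul.1 this).symm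
    rw [← (hc.zpow_right k).eq, mul_inv_cancel_right]
  have hhK : h * e * h⁻¹ ∈ K := by
    refine ⟨hS.norm h hh e heK.1, ?_⟩
    have h1 : c * (h * e * h⁻¹) * c⁻¹ * (h * e * h⁻¹)⁻¹ = h * (c * e * c⁻¹ * e⁻¹) * h⁻¹ := by
      calc c * (h * e * h⁻¹) * c⁻¹ * (h * e * h⁻¹)⁻¹
          = (c * h) * e * (c * h)⁻¹ * (h * e * h⁻¹)⁻¹ := by group
        _ = (h * c) * e * (h * c)⁻¹ * (h * e * h⁻¹)⁻¹ := by rw [hcH h hh]
        _ = _ := by group
    rw [h1, hhF _ heK.2]
    exact heK.2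
  have hKD : K = D := by
    refine eq_of_le_of_card_ge (fun u hu => hu.1) ?_
    haveI : (F.subgroupOf K).Normal :=
      ⟨fun u hu k => hFnD k ((hKmem _).1 k.2).1 u hu⟩
    have h1 := (F.subgroupOf K).card_mul_index
    rw [Nat.card_congr (Subgroup.subgroupOfEquivOfLe hFK).toEquiv] at h1
    have h2 : (F.subgroupOf K).index ≠ 1 := fun h => heF (by
      have : (⟨e, heK⟩ : K) ∈ F.subgroupOf K := by rw [Subgroup.index_eq_one.1 h]; exact mem_top _
      exact this)
    have h3 : (F.subgroupOf K).index ≠ 2 := by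
      intro hidx
      have := (Subgroup.mul_mem_iff_of_index_two hidx (a := (⟨e, heK⟩ : K)⁻¹) (b := ⟨_, hhK⟩))
      have h4 : (⟨h * e * h⁻¹, hhK⟩ : K) ∉ F.subgroupOf K := fun hm => heF (by
        have hm' : h * e * h⁻¹ ∈ F := hm
        have hc := mul_inv_eq_iff_eq_mul.1 (hhF _ hm')
        have he' : e = h * e * h⁻¹ :=
          calc e = h⁻¹ * (h * e * h⁻¹ * h) := by group
            _ = h⁻¹ * (h * (h * e * h⁻¹)) := by rw [hc]
            _ = h * e * h⁻¹ := inv_mul_cancel_left _ _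
        exact he'.symm ▸ hm')
      have h5 : (⟨e, heK⟩ : K)⁻¹ ∉ F.subgroupOf K := fun hm => heF (by
        have := inv_mem hm
        rw [inv_inv] at this
        exact this)
      exact heF (hfixe e heK.1 (this.2 ⟨fun hm => absurd hm h5, fun hm => absurd hm h4⟩))
    have h6 : (F.subgroupOf K).index ∣ 4 := by
      have := Subgroup.card_dvd_of_le (show K ≤ D from fun u hu => hu.1)
      rw [← h1, hS.card, mul_comm 4] at this
      exact Nat.dvd_of_mul_dvd_mul_left Nat.card_pos this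
    have h7 := Nat.le_of_dvd (by norm_num) h6
    have h8 : (F.subgroupOf K).index = 4 := by
      interval_cases hv : (F.subgroupOf K).index <;> first | rfl | omega
    rw [← h1, h8, hS.card, mul_comm]
  intro d hd
  have hle : ⁅D, H⁆ ≤ centralizer ({c} : Set G) := by
    rw [commutator_le]
    intro u hu k hk
    refine mem_centralizer_singleton_iff.2 ?_
    have hf := (hKD.ge hu).2
    set f := c * u * c⁻¹ * u⁻¹ with hfdef
    have hcu : c * u * c⁻¹ = f * u := by rw [hfdef]; group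
    have hfk : f * k = k * f := by
      have := hS.fixed k hk f hf
      exact (mul_inv_eq_iff_eq_mul.1 this).symm
    have hfu : u * f = f * u := hS.central u hu f hf
    have hck : c * k * c⁻¹ = k := by rw [hcH k hk, mul_inv_cancel_right]
    have : c * ⁅u, k⁆ * c⁻¹ = ⁅u, k⁆ := by
      rw [← MulAut.conj_apply, map_commutatorElement, MulAut.conj_apply, MulAut.conj_apply, hcu, hck,
        commutatorElement_def, commutatorElement_def]
      calc f * u * k * (f * u)⁻¹ * k⁻¹ = u * f * k * f⁻¹ * u⁻¹ * k⁻¹ := by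
            rw [← hfu]; group
              <;> simp [mul_assoc]
        _ = u * (k * f) * f⁻¹ * u⁻¹ * k⁻¹ := by rw [← hfk]; group
        _ = _ := by group
    exact (mul_inv_eq_iff_eq_mul.1 this).symm
  exact (mem_centralizer_singleton_iff.1 (hle (hS.gen hd))).symm

end Small

/-- The conclusion. -/
def Shape (X : Subgroup G) : Prop :=
  IsMulCommutative ↥X ∨
    (Cfsg.IsExtraspecial 2 ↥X ∧ 32 ≤ Nat.card ↥X) ∨
    (∃ (X₀ : Subgroup G) (k : ℕ), X₀ ≤ X ∧ X₀.relIndex X = 2 ∧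
      Nonempty (↥X₀ ≃* QuaternionGroup (2 ^ (k + 1))) ∧ X₀ ⊔ (X ⊓ centralizer (X₀ : Set G)) = X) ∨
    (Cfsg.IsSpecial 2 ↥X ∧ Nat.card ↥(center ↥X) = 4)

/-- The case of a normal Sylow subgroup. -/
theorem normal_case {X H : Subgroup G} [X.Normal] (hX : IsPGroup 2 X) (hH : Odd (Nat.card H))
    (hXH : X ⊔ H = ⊤) (hC : centralizer (X : Set G) ≤ X) (hA : Eight X)
    (hmin : ∀ R : Subgroup G, R ≠ ⊤ → (∃ k : ℕ, R.index = 2 ^ k) → ¬ Eight R) : Shape X := by
  haveI : Fact (Nat.Prime 2) := ⟨Nat.prime_two⟩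
  have hn : ∀ h ∈ H, ∀ x ∈ X, h * x * h⁻¹ ∈ X := fun h _ x hx =>
    Subgroup.Normal.conj_mem inferInstance x hx h
  have hdisj : X ⊓ H = ⊥ := by
    refine eq_bot_of_card_eq _ ?_
    exact Nat.eq_one_of_dvd_coprimes (coprime_of_two hX hH)
      (card_dvd_of_le inf_le_right) (card_dvd_of_le inf_le_left)
  have hcomp : IsComplement' X H := by
    refine isComplement'_of_disjoint_and_mul_eq_univ (disjoint_iff.2 hdisj) ?_
    rw [← Subgroup.normal_mul, hXH]
    rfl
  have hsmall : ∀ Y ≤ X, Y ≠ X → (∀ h ∈ H, ∀ u ∈ Y, h * u * h⁻¹ ∈ Y) → ¬ Eight Y := by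
    intro Y hYX hne hYn h8
    refine hmin (Y ⊔ H) (fun htop => hne (le_antisymm hYX fun x hx => ?_)) ?_ (h8.mono le_sup_left)
    · have hle : H ≤ normalizer (Y : Set G) := le_normalizer_of hYn
      have hx' : x ∈ ((Y ⊔ H : Subgroup G) : Set G) := htop ▸ mem_top x
      rw [Subgroup.coe_mul_of_right_le_normalizer_left _ _ hle] at hx'
      obtain ⟨y, hy, k, hk, rfl⟩ := hx'
      have hkX : k ∈ X ⊓ H := ⟨by simpa using mul_mem (inv_mem (hYX hy)) hx, hk⟩
      rw [hdisj, mem_bot] at hkX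
      subst hkX
      simpa using hy
    · obtain ⟨n, hn'⟩ := IsPGroup.iff_card.1 hX
      have h1 := (Y ⊔ H).card_mul_index
      rw [← hcomp.card_mul_card, hn'] at h1
      have h2 : Nat.card H ∣ Nat.card ↥(Y ⊔ H) := card_dvd_of_le le_sup_right
      obtain ⟨m, hm⟩ := h2
      rw [hm, mul_comm (2 ^ n), mul_assoc] at h1
      have h3 : (Y ⊔ H).index ∣ 2 ^ n := ⟨m, by
        rw [← Nat.eq_of_mul_eq_mul_left Nat.card_pos h1, mul_comm]⟩
      obtain ⟨k, -, hk⟩ := (Nat.dvd_prime_pow Nat.prime_two).1 h3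
      exact ⟨k, hk⟩
  by_cases hab : ∀ u ∈ X, ∀ v ∈ X, u * v = v * u
  · exact Or.inl ⟨⟨fun u v => Subtype.ext (hab u u.2 v v.2)⟩⟩
  have hX8 : Nat.card X ≠ 8 := fun h8 => hab fun u hu v hv => by
    obtain ⟨A, hAX, hAc, -, hA8⟩ := hA
    have hAe : A = X := eq_of_le_of_card_ge hAX (by rw [h8, hA8])
    exact congrArg Subtype.val (hAc.is_comm.comm (⟨u, hAe ▸ hu⟩ : A) ⟨v, hAe ▸ hv⟩)
  have hXne : ¬ X ≤ ⊥ := fun h => hab fun u hu v hv => by
    rw [mem_bot.1 (h hu), mem_bot.1 (h hv)]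
  have hHn : H ≤ normalizer (X : Set G) := le_normalizer_of hn
  have hcop := coprime_of_two hX hH
  have hs := isSolvable_of_two hX
  have hDX := CfsgLib.Solvable.commutator_le_of_le_normalizer hHn
  have hidem := (CfsgLib.Solvable.commutator_commutator_self hHn hcop (Or.inr hs)).ge
  set D := ⁅X, H⁆ with hD
  by_cases hDeq : D = X
  · have hy : Hyp X H := ⟨hX, hH, hn, hDeq.ge, hsmall⟩
    obtain ⟨hFZ, hCZ, -, hz⟩ := hy.core (by
      push Not at hab
      obtain ⟨u, hu, v, hv, huv⟩ := hab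
      exact ⟨⟨u, hu⟩, ⟨v, hv⟩, fun h => huv (congrArg Subtype.val h)⟩)
    have hspec : Cfsg.IsSpecial 2 ↥X := ⟨hX, hFZ, hCZ⟩
    rcases hz with hz | hz
    · refine Or.inr (Or.inl ⟨⟨hspec, hz⟩, ?_⟩)
      obtain ⟨n, hn'⟩ := IsPGroup.iff_card.1 hX
      obtain ⟨A, hAX, -, -, hA8⟩ := hA
      have h8 := Subgroup.card_le_of_le hAX
      have h16 : Nat.card X ≠ 16 := card_ne_sixteen hX hCZ.le hz
      by_contra h32
      have h5 : n < 5 := by
        by_contra h
        exact h32 (hn' ▸ le_trans (by norm_num) (Nat.pow_le_pow_right two_pos (show 5 ≤ n by omega)))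
      interval_cases n <;> omega
    · exact Or.inr (Or.inr (Or.inr ⟨hspec, hz⟩))
  -- `D = [X, H] < X`
  by_cases hDne : D = ⊥
  · exfalso
    have hHC : H ≤ centralizer (X : Set G) := fun h hh => mem_centralizer_iff.2 fun x hx =>
      commutatorElement_eq_one_iff_mul_comm.1 (mem_bot.1 (hDne ▸ commutator_mem_commutator hx hh))
    have hHb : H = ⊥ := by rw [← hdisj, inf_eq_right.2 (hHC.trans hC)]
    rw [hHb, sup_bot_eq] at hXH
    obtain ⟨A, hAX, hAc, hAn, hA8⟩ := hA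
    have hAne : A ≠ ⊤ := fun h => hab fun u _ v _ =>
      congrArg Subtype.val (hAc.is_comm.comm (⟨u, h ▸ mem_top u⟩ : A) ⟨v, h ▸ mem_top v⟩)
    obtain ⟨M, hM, hAM⟩ := (eq_top_or_exists_le_coatom A).resolve_left hAne
    have hG : IsPGroup 2 G := fun g => by
      obtain ⟨k, hk⟩ := hX ⟨g, hXH ▸ mem_top g⟩
      exact ⟨k, congrArg Subtype.val hk⟩
    exact hmin M hM.1 ⟨1, by rw [CfsgLib.PGroup.index_of_isCoatom hG hM, pow_one]⟩
      ⟨A, hAM, hAc, hAn, hA8⟩
  have hDn : ∀ h ∈ H, ∀ x ∈ D, h * x * h⁻¹ ∈ D := fun g hg x hx =>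
    (mem_normalizer_iff.1 (CfsgLib.Solvable.le_normalizer_commutator_right hHn hg) x).1 hx
  obtain ⟨F, hS⟩ := small_of (hX.to_le hDX) hH hDn hidem hDne (hsmall D hDX hDeq hDn)
  have hXD : ∀ x ∈ X, ∀ d ∈ D, x * d * x⁻¹ ∈ D := fun x hx d hd =>
    (mem_normalizer_iff.1 (CfsgLib.Solvable.le_normalizer_commutator_left X H hx) d).1 hd
  have hdec : ∀ x ∈ X, ∃ d ∈ D, ∃ c ∈ X ⊓ centralizer (H : Set G), x = d * c := fun x hx =>
    CfsgLib.Solvable.exists_commutator_mul_centralizer hHn hcop (Or.inr hs) hx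
  have hcH : ∀ c ∈ X ⊓ centralizer (H : Set G), ∀ h ∈ H, c * h = h * c := fun c hc h hh =>
    (mem_centralizer_iff.1 hc.2 h hh).symm
  have hfixc : ∀ c ∈ X ⊓ centralizer (H : Set G), ∀ h ∈ H, h * c * h⁻¹ = c := fun c hc h hh => by
    rw [← hcH c hc h hh, mul_inv_cancel_right]
  have hcentD : ∀ c ∈ X ⊓ centralizer (H : Set G), ∀ d ∈ D, c * d = d * c := by
    intro c hc
    refine hS.centralizes hX hDX hc.1 (hXD c hc.1) (fun f hf => ?_) (hcH c hc)
    have hd : c * f * c⁻¹ ∈ D := hXD c hc.1 f (hS.le hf)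
    refine hS.fpf_all hd fun h hh => ?_
    calc h * (c * f * c⁻¹) * h⁻¹ = (h * c * h⁻¹) * (h * f * h⁻¹) * (h * c * h⁻¹)⁻¹ := by group
      _ = c * f * c⁻¹ := by rw [hfixc c hc h hh, hS.fixed h hh f hf]
  have hgenY : ∀ c ∈ X ⊓ centralizer (H : Set G), c * c ∈ D →
      (∀ u ∈ D ⊔ zpowers c, u ∈ D ∨ c * u ∈ D) ∧ (Eight (D ⊔ zpowers c) → D ⊔ zpowers c = X) := by
    intro c hc hc2
    refine ⟨fun u hu => ?_, fun h8 => ?_⟩
    · have hle : zpowers c ≤ normalizer (D : Set G) :=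
        zpowers_le.2 ((CfsgLib.Solvable.le_normalizer_commutator_left X H) hc.1)
      have hu' : u ∈ ((D ⊔ zpowers c : Subgroup G) : Set G) := hu
      rw [Subgroup.coe_mul_of_right_le_normalizer_left _ _ hle] at hu'
      obtain ⟨d, hd, w, hw, rfl⟩ := hu'
      obtain ⟨i, rfl⟩ := mem_zpowers_iff.1 hw
      rcases Int.even_or_odd i with ⟨j, rfl⟩ | ⟨j, rfl⟩
      · left
        show d * c ^ (j + j) ∈ D
        rw [← two_mul, zpow_mul, zpow_two]
        exact mul_mem hd (zpow_mem hc2 j)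
      · right
        show c * (d * c ^ (2 * j + 1)) ∈ D
        rw [← mul_assoc, hcentD c hc d hd, mul_assoc, ← zpow_one_add,
          show (1 : ℤ) + (2 * j + 1) = 2 * (j + 1) by ring, zpow_mul, zpow_two]
        exact mul_mem hd (zpow_mem hc2 _)
    · by_contra hne
      refine hsmall _ (sup_le hDX (zpowers_le.2 hc.1)) hne (fun h hh u hu => ?_) h8
      have : (D ⊔ zpowers c).map (MulAut.conj h).toMonoidHom ≤ D ⊔ zpowers c := by
        rw [Subgroup.map_sup, MonoidHom.map_zpowers]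
        refine sup_le ?_ (zpowers_le.2 ?_)
        · rintro _ ⟨d, hd, rfl⟩
          exact mem_sup_left (hDn h hh d hd)
        · show h * c * h⁻¹ ∈ _
          rw [hfixc c hc h hh]
          exact mem_sup_right (mem_zpowers c)
      exact this ⟨u, hu, rfl⟩
  obtain ⟨A, hAX, hAc, hAn, hA8⟩ := hA
  -- a centralised element outside `D`
  obtain ⟨c, hc, hcD, hc2, hc4⟩ : ∃ c ∈ X ⊓ centralizer (H : Set G), c ∉ D ∧ c * c ∈ D ∧
      c * c * (c * c) = 1 := by
    obtain ⟨c₀, hc₀, hc₀D⟩ : ∃ c ∈ X ⊓ centralizer (H : Set G), c ∉ D := by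
      by_contra hcon
      push Not at hcon
      apply hDeq
      refine le_antisymm hDX fun x hx => ?_
      obtain ⟨d, hd, c, hc, rfl⟩ := hdec x hx
      exact mul_mem hd (hcon c hc)
    obtain ⟨j, hj1, hj2⟩ := CfsgLib.Solvable.exists_notMem_pow_mem (p := 2) hX
      (H := D.subgroupOf X) (g := ⟨c₀, hc₀.1⟩) hc₀D
    have hc : c₀ ^ 2 ^ j ∈ X ⊓ centralizer (H : Set G) := pow_mem hc₀ _
    have h2 : c₀ ^ 2 ^ j * c₀ ^ 2 ^ j ∈ D := by
      have := hj2
      rw [mem_subgroupOf, pow_two] at this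
      simpa using this
    refine ⟨_, hc, fun h => hj1 (by rw [mem_subgroupOf]; simpa using h), h2, ?_⟩
    have hF := hS.fpf_all h2 fun h hh => by
      rw [show h * (c₀ ^ 2 ^ j * c₀ ^ 2 ^ j) * h⁻¹ =
        (h * c₀ ^ 2 ^ j * h⁻¹) * (h * c₀ ^ 2 ^ j * h⁻¹) by group, hfixc _ hc h hh]
    have := orderOf_dvd_natCard (⟨_, hF⟩ : F)
    rcases hS.cases with ⟨hF', -, -⟩ | ⟨hF', -, -⟩
    · have h1 : c₀ ^ 2 ^ j * c₀ ^ 2 ^ j = 1 := by rw [hF', mem_bot] at hF; exact hF
      rw [h1, one_mul]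
    · rw [hF', orderOf_dvd_iff_pow_eq_one, pow_two] at this
      exact congrArg Subtype.val this
  obtain ⟨hor, heq⟩ := hgenY c hc hc2
  rcases hS.cases with ⟨hF, hDc, hDe⟩ | ⟨hF, hnc, ⟨e⟩⟩
  · have h4 : Nat.card D = 4 := by rw [hS.card, hF, card_bot]
    have hX' := heq (eight_of_pair le_sup_left h4 hDc (mem_sup_right (mem_zpowers c)) hcD hc2 hc4
      (hcentD c hc) fun v hv => by rw [hDe v hv, one_mul])
    refine absurd (fun u hu v hv => ?_) hab
    rw [← hX'] at hu hv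
    have h1 : D ⊔ zpowers c ≤ centralizer ({c} : Set G) := sup_le
      (fun d hd => mem_centralizer_singleton_iff.2 (hcentD c hc d hd).symm)
      (zpowers_le.2 (mem_centralizer_singleton_iff.2 rfl))
    have h2 : ∀ d ∈ D, D ⊔ zpowers c ≤ centralizer ({d} : Set G) := fun d hd => sup_le
      (fun d' hd' => mem_centralizer_singleton_iff.2 (hDc d' hd' d hd))
      (zpowers_le.2 (mem_centralizer_singleton_iff.2 (hcentD c hc d hd)))
    have h3 : D ⊔ zpowers c ≤ centralizer ({u} : Set G) := sup_le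
      (fun d hd => mem_centralizer_singleton_iff.2 (mem_centralizer_singleton_iff.1 (h2 d hd hu)).symm)
      (zpowers_le.2 (mem_centralizer_singleton_iff.2 (mem_centralizer_singleton_iff.1 (h1 hu)).symm))
    exact (mem_centralizer_singleton_iff.1 (h3 hv)).symm
  · have h8 : Nat.card D = 8 := by rw [hS.card, hF]
    obtain ⟨i, hi, hiF⟩ := SetLike.not_le_iff_exists.1 (fun hle : D ≤ F => by
      have := Subgroup.card_le_of_le hle; omega)
    have hi2 : i * i ≠ 1 := fun h => hiF ((hS.sq i hi h).resolve_right (by omega))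
    have hi4 : i ^ 4 = 1 := by
      obtain ⟨k, hk⟩ : ∃ k, e ⟨i, hi⟩ = k := ⟨_, rfl⟩
      have hall : ∀ u : QuaternionGroup 2, u ^ 4 = 1 := by decide
      have : (⟨i, hi⟩ : D) ^ 4 = 1 := e.injective (by rw [map_pow, map_one, hall])
      exact congrArg Subtype.val this
    have hVc : Nat.card (zpowers i) = 4 := by
      rw [Nat.card_zpowers, orderOf_eq_prime_pow (p := 2) (n := 1) (by rw [pow_one, pow_two]; exact hi2)
        (by norm_num; exact hi4)]
      norm_num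
    have hciD : c ∉ zpowers i := fun h => hcD (zpowers_le.2 hi h)
    have hc2V : c * c ∈ zpowers i := by
      have hF2 : c * c ∈ F := hS.fpf_all hc2 fun h hh => by
        rw [show h * (c * c) * h⁻¹ = (h * c * h⁻¹) * (h * c * h⁻¹) by group, hfixc c hc h hh]
      have hii : i * i ∈ F := (hS.sq _ (mul_mem hi hi) (by
        rw [show i * i * (i * i) = i ^ 4 by simp [pow_succ, mul_assoc]]; exact hi4)).resolve_right
        (by omega)
      rcases eq_or_ne (c * c) 1 with h | h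
      · rw [h]; exact one_mem _
      · have := mem_zpowers_of_prime_card (p := 2) hF (g := (⟨i * i, hii⟩ : F)) (g' := ⟨c * c, hF2⟩)
          (fun e => hi2 (congrArg Subtype.val e))
        obtain ⟨m, hm⟩ := mem_zpowers_iff.1 this
        rw [← show (i * i) ^ m = c * c by simpa using congrArg Subtype.val hm]
        exact zpow_mem (mul_mem (mem_zpowers i) (mem_zpowers i)) m
    have hX' := heq (eight_of_pair (V := zpowers i) ((zpowers_le.2 hi).trans le_sup_left) hVc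
      (fun u hu v hv => by
        obtain ⟨a, rfl⟩ := mem_zpowers_iff.1 hu
        obtain ⟨b, rfl⟩ := mem_zpowers_iff.1 hv
        exact ((Commute.refl i).zpow_zpow a b).eq)
      (mem_sup_right (mem_zpowers c)) hciD hc2V hc4
      (fun v hv => hcentD c hc v (zpowers_le.2 hi hv))
      (fun v hv => by
        obtain ⟨a, rfl⟩ := mem_zpowers_iff.1 hv
        rw [show i ^ a * i ^ a * (i ^ a * i ^ a) = (i ^ 4) ^ a by
          rw [← zpow_natCast, ← zpow_mul, ← zpow_add, ← zpow_add]; congr 1; push_cast; ring,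
          hi4, one_zpow]))
    refine Or.inr (Or.inr (Or.inl ⟨D, 0, hDX, ?_, ⟨e.trans (MulEquiv.refl _)⟩, ?_⟩))
    · show (D.subgroupOf X).index = 2
      rw [Subgroup.index_eq_two_iff]
      refine ⟨⟨c, hc.1⟩, fun ⟨b, hb⟩ => ?_⟩
      simp only [mem_subgroupOf, MulMemClass.mk_mul_mk]
      rw [← hX'] at hb
      rcases hor b hb with h | h
      · refine Or.inr ⟨h, fun h' => hcD ?_⟩
        have := mul_mem (inv_mem h) h'
        rwa [inv_mul_cancel_left] at this
      · have h1 : c * (c * b) = (c * b) * c := hcentD c hc _ h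
        have h2 : c * b = b * c := mul_left_cancel (h1.trans (mul_assoc c b c))
        refine Or.inl ⟨h2 ▸ h, fun h' => hcD ?_⟩
        have := mul_mem h (inv_mem h')
        rwa [mul_inv_cancel_right] at this
    · refine le_antisymm (sup_le hDX inf_le_left) fun x hx => ?_
      obtain ⟨d, hd, w, hw, rfl⟩ := hdec x hx
      exact mul_mem (mem_sup_left hd) (mem_sup_right ⟨hw.1, mem_centralizer_iff.2 fun d' hd' =>
        (hcentD w hw d' hd').symm⟩)

end CfsgLib.PGroup.MinimalEight
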